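import Cfsg.Agent.H739.SK.OmG
import Cfsg.Agent.H282.SK.Tools
import Cfsg.Agent.AutOrth.Final
import Cfsg.Agent.H206.OrthFin

/-!
# S3010: the rows `PΩ^±_{2m}(q)`, `q` even, `m ≥ 4` (helper739)

* `dead_pomega` : no minimal counterexample `Cx V K` has `K ≃* POmega F Q` if `Q` is good, `F` has characteristic two,
  the dimension is at least five and the semisimilitudes have odd index in the automorphism group;
* `srow_POmegaPlus_even`, `srow_POmegaMinus_even`, `dead_POmegaPlus_even`, `dead_POmegaMinus_even`.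
-/

set_option autoImplicit false
set_option linter.unusedSectionVars false
set_option linter.unusedVariables false

universe u v w

open Subgroup Cfsg

namespace Cfsg.Agent.H739.SK.Om

open QuadraticMap Cfsg.Agent.LieClassical.OrthCore Cfsg.Agent.LieClassical.OrthTrans
  Cfsg.Agent.ClassicalGeometry.OrthSemi Cfsg.Agent.ClassicalGeometry.OrthAut1
  Cfsg.Agent.LieClassical.QuadForms
open Cfsg.Agent.H282.SK (Cx O2 DeadS)
open Module (finrank)

section

variable {G : Type u} [Group G] [Finite G] {V K : Subgroup G}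
variable {F : Type v} {W : Type w} [Field F] [AddCommGroup W] [Module F W] {Q : QuadraticForm F W}

/-- the centre of `E Q` is trivial in characteristic two -/
theorem center_E (h2 : (2 : F) = 0) (hG : Good Q) : Subgroup.center ↥(E Q) = ⊥ := by
  rw [eq_bot_iff]
  intro z hz
  rw [Subgroup.mem_center_iff] at hz
  rw [Subgroup.mem_bot]
  apply Subtype.ext
  apply eq_one_of_comm h2 hG (E_le_O z.2)
  intro k hk
  exact (congrArg Subtype.val (hz ⟨k, hk⟩)).symm

/-- all automorphisms induced by `G` are semisimilar -/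
theorem dead_of_range [Finite F] [FiniteDimensional F W] [K.Normal] (h2 : (2 : F) = 0) (hG : Good Q)
    (hdim : 5 ≤ finrank F W) (h : Cx V K) (e : K ≃* P Q)
    (hr : ∀ g : G, ∃ M : Gam Q, ∀ k : K, Psi Q M (e k) = e (MulAut.conjNormal g k)) : False := by
  have hinj : Function.Injective (QuotientGroup.mk' (Subgroup.center ↥(E Q))) := by
    rw [← MonoidHom.ker_eq_bot_iff, QuotientGroup.ker_mk', center_E h2 hG]
  let ψ : ↥(E Q) ≃* P Q := MulEquiv.ofBijective (QuotientGroup.mk' (Subgroup.center ↥(E Q)))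
    ⟨hinj, QuotientGroup.mk'_surjective _⟩
  let ε : K ≃* E Q := e.trans ψ.symm
  have hε : ∀ k, (QuotientGroup.mk (ε k) : P Q) = e k := fun k => ψ.apply_symm_apply (e k)
  refine dead (ε := ε) h2 hG hdim h fun g => ?_
  obtain ⟨M, hM⟩ := hr g
  refine ⟨M, fun k => ?_⟩
  have h1 := hM k
  rw [← hε, ← hε, Psi_mk] at h1
  exact congrArg Subtype.val (hinj h1)

theorem conj_mem_range (hG : Good Q) (x : P Q) : MulAut.conj x ∈ (Psi Q).range := by
  obtain ⟨s, rfl⟩ := QuotientGroup.mk_surjective x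
  refine ⟨ofO (E_le_O s.2), ?_⟩
  ext y
  obtain ⟨t, rfl⟩ := QuotientGroup.mk_surjective y
  rw [Psi_mk, MulAut.conj_apply]
  have h1 : conjE Q (ofO (E_le_O s.2)) t = s * t * s⁻¹ := by
    apply Subtype.ext
    rw [coe_conjE, conjLin_ofO]
    rfl
  rw [h1]
  rfl

/-- the semisimilar automorphisms have odd index -/
theorem dead_of_odd [Finite F] [FiniteDimensional F W] (h2 : (2 : F) = 0) (hG : Good Q)
    (hdim : 5 ≤ finrank F W) (hind : Odd (Psi Q).range.index) (h : Cx V K) (e : K ≃* P Q) : False := by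
  have := h.norm
  have : Finite (P Q) := Finite.of_equiv K e.toEquiv
  have : Finite (MulAut (P Q)) := Finite.of_injective (fun α => (α : P Q → P Q)) fun α β hh => MulEquiv.ext (congrFun hh)
  obtain ⟨φ, hφ, hφK, hφg⟩ := h.exists_toAut e
  set Γ := (Psi Q).range with hΓ
  -- a coset fixed by `V`
  have hV : IsPGroup 2 V := H273.Sidki.elemAb_isPGroup h.elem
  let ρ : V →* MulAut (P Q) := φ.comp V.subtype
  let _ : MulAction V (MulAut (P Q) ⧸ Γ) := MulAction.compHom _ ρ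
  have hfix : (MulAction.fixedPoints V (MulAut (P Q) ⧸ Γ)).Nonempty := by
    apply hV.nonempty_fixed_point_of_prime_not_dvd_card
    intro hdvd
    rw [← Subgroup.index_eq_card] at hdvd
    exact (Nat.not_even_iff_odd.2 hind) (even_iff_two_dvd.2 hdvd)
  obtain ⟨c, hc⟩ := hfix
  obtain ⟨α, rfl⟩ := QuotientGroup.mk_surjective c
  have hα : ∀ v ∈ V, α⁻¹ * φ v * α ∈ Γ := by
    intro v hv
    have h1 := hc ⟨v, hv⟩
    have h3 : (QuotientGroup.mk (φ v * α) : MulAut (P Q) ⧸ Γ) = QuotientGroup.mk α := h1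
    have h4 := QuotientGroup.eq.1 h3.symm
    rwa [← mul_assoc] at h4
  have hall : ∀ g : G, α⁻¹ * φ g * α ∈ Γ := by
    intro g
    obtain ⟨k, hk, v, hv, rfl⟩ := h.exists_mul g
    have h1 : α⁻¹ * φ (k * v) * α = (α⁻¹ * φ k * α) * (α⁻¹ * φ v * α) := by
      rw [map_mul]; group
    rw [h1]
    refine Γ.mul_mem ?_ (hα v hv)
    have h3 : φ k = MulAut.conj (e ⟨k, hk⟩) := hφK ⟨k, hk⟩
    have h4 : α⁻¹ * MulAut.conj (e ⟨k, hk⟩) * α = MulAut.conj (α⁻¹ (e ⟨k, hk⟩)) := by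
      ext y
      show α⁻¹ (e ⟨k, hk⟩ * α y * (e ⟨k, hk⟩)⁻¹) = α⁻¹ (e ⟨k, hk⟩) * y * (α⁻¹ (e ⟨k, hk⟩))⁻¹
      rw [map_mul, map_mul, map_inv]
      congr 2
      exact α.symm_apply_apply y
    rw [h3, h4]
    exact conj_mem_range hG _
  refine dead_of_range h2 hG hdim h (e.trans (α⁻¹ : MulAut (P Q))) fun g => ?_
  obtain ⟨M, hM⟩ := hall g
  refine ⟨M, fun k => ?_⟩
  rw [hM]
  obtain ⟨hgk, h5⟩ := hφg g k
  have h6 : (MulAut.conjNormal g k : K) = ⟨g * k * g⁻¹, hgk⟩ := Subtype.ext (MulAut.conjNormal_apply g k)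
  rw [h6]
  show α⁻¹ (φ g (α (α⁻¹ (e k)))) = α⁻¹ (e ⟨g * k * g⁻¹, hgk⟩)
  have h7 : α (α⁻¹ (e k)) = e k := α.apply_symm_apply (e k)
  rw [h7, h5]

end

/-- **No minimal counterexample has `K ≃* POmega F Q`.** -/
theorem dead_pomega {G : Type u} [Group G] [Finite G] {V K : Subgroup G} {ι : Type} [Fintype ι] [DecidableEq ι]
    {F : Type v} [Field F] [Finite F] {Q : QuadraticForm F (ι → F)} (h2 : (2 : F) = 0) (hG : Good Q)
    (hdim : 5 ≤ Fintype.card ι) (hind : Odd (Psi Q).range.index) (h : Cx V K)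
    (e : K ≃* POmega F ⇑Q) : False :=
  dead_of_odd h2 hG (by rwa [Module.finrank_fintype_fun_eq_card]) hind h (e.trans (AutOrth.Main.pe hG))

section Rows

variable {G : Type u} [Group G] [Finite G] {V K : Subgroup G}

/-- **Row `PΩ⁺_{2m}(q)`, `q` even, `m ≥ 4`.** -/
theorem srow_POmegaPlus_even {F : Type v} [Field F] [Finite F] (h2 : (2 : F) = 0) {m : ℕ} (hm : 4 ≤ m)
    (h : Cx V K) (e : K ≃* POmega F (quadFormPlus m F)) : False := by
  rw [← coe_plusForm] at e
  refine dead_pomega h2 (AutOrth.Main.good_plus (by omega)) (by simp; omega) ?_ h e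
  rcases eq_or_lt_of_le hm with rfl | hm'
  · have h1 := AutOrth.Final.index_plus_four (F := F)
    rw [AutOrth.Main.plusForm_eq] at h1
    rw [h1]
    decide
  · have h1 := AutOrth.Final.surjective_plus (F := F) (m := m) (by omega)
    rw [AutOrth.Main.plusForm_eq] at h1
    rw [MonoidHom.range_eq_top.2 h1, Subgroup.index_top]
    exact odd_one

/-- **Row `PΩ⁻_{2m}(q)`, `q` even, `m ≥ 4`.** -/
theorem srow_POmegaMinus_even {F : Type v} [Field F] [Finite F] (h2 : (2 : F) = 0) {m : ℕ} (hm : 4 ≤ m) {a b : F}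
    (hab : ∀ z₁ z₂ : F, z₁ ^ 2 + a * z₁ * z₂ + b * z₂ ^ 2 = 0 → z₁ = 0 ∧ z₂ = 0)
    (h : Cx V K) (e : K ≃* POmega F (quadFormMinus (m - 1) F a b)) : False := by
  rw [← coe_minusForm] at e
  refine dead_pomega h2 (AutOrth.Main.good_minus (by omega) hab) (by simp; omega) ?_ h e
  have h1 := AutOrth.Final.surjective_minus (F := F) (m := m - 1) (by omega) hab
  rw [AutOrth.Main.minusForm_eq] at h1
  rw [MonoidHom.range_eq_top.2 h1, Subgroup.index_top]
  exact odd_one

end Rows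

theorem dead_POmegaPlus_even {F : Type v} [Field F] [Finite F] (h2 : (2 : F) = 0) {m : ℕ} (hm : 4 ≤ m) :
    DeadS.{u} (fun K _ => Nonempty (K ≃* POmega F (quadFormPlus m F))) := by
  intro G _ _ V K h he
  obtain ⟨e⟩ := he
  exact srow_POmegaPlus_even h2 hm h e

theorem dead_POmegaMinus_even {F : Type v} [Field F] [Finite F] (h2 : (2 : F) = 0) {m : ℕ} (hm : 4 ≤ m) {a b : F}
    (hab : ∀ z₁ z₂ : F, z₁ ^ 2 + a * z₁ * z₂ + b * z₂ ^ 2 = 0 → z₁ = 0 ∧ z₂ = 0) :
    DeadS.{u} (fun K _ => Nonempty (K ≃* POmega F (quadFormMinus (m - 1) F a b))) := by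
  intro G _ _ V K h he
  obtain ⟨e⟩ := he
  exact srow_POmegaMinus_even h2 hm hab h e

/-- the field `plus` of `H731.SK.Rows` -/
theorem row_plus : DeadS.{u} (fun K _ => ∃ (F : Type) (_ : Field F) (_ : Fintype F) (_ : CharP F 2) (m : ℕ),
    4 ≤ m ∧ Nonempty (K ≃* POmega F (quadFormPlus m F))) := by
  intro G _ _ V K h he
  obtain ⟨F, _, _, _, m, hm, ⟨e⟩⟩ := he
  exact srow_POmegaPlus_even CharTwo.two_eq_zero hm h e

/-- the field `minus` of `H731.SK.Rows` -/
theorem row_minus : DeadS.{u} (fun K _ => ∃ (F : Type) (_ : Field F) (_ : Fintype F) (_ : CharP F 2) (m : ℕ)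
    (a b : F), 4 ≤ m ∧ (∀ z₁ z₂ : F, z₁ ^ 2 + a * z₁ * z₂ + b * z₂ ^ 2 = 0 → z₁ = 0 ∧ z₂ = 0) ∧
    Nonempty (K ≃* POmega F (quadFormMinus (m - 1) F a b))) := by
  intro G _ _ V K h he
  obtain ⟨F, _, _, _, m, a, b, hm, hab, ⟨e⟩⟩ := he
  exact srow_POmegaMinus_even CharTwo.two_eq_zero hm hab h e

end Cfsg.Agent.H739.SK.Om
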