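import Mathlib

/-!
# S3010, orthogonal groups in characteristic two: the field lemmas (helper739)

`F` a finite field of characteristic two.
* `exists_irr` : some `l ≠ 0` with `a² + l a b + b²` anisotropic;
* `eq_refl_of_irr` : such an `l` is fixed by no nontrivial `σ` with `σ² = 1`.
-/

set_option autoImplicit false

namespace Cfsg.Agent.H739.SK.Om

variable {F : Type*} [Field F]

/-- `T² + l T + 1` has no root, homogeneous form. -/
def Irr (l : F) : Prop := ∀ a b : F, a * a + l * (a * b) + b * b = 0 → a = 0 ∧ b = 0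

theorem add_self (h2 : (2 : F) = 0) (a : F) : a + a = 0 := by
  rw [← two_mul, h2, zero_mul]

theorem neg_eq (h2 : (2 : F) = 0) (a : F) : -a = a := by
  rw [neg_eq_iff_add_eq_zero]; exact add_self h2 a

theorem sub_eq (h2 : (2 : F) = 0) (a b : F) : a - b = a + b := by
  rw [sub_eq_add_neg, neg_eq h2]

/-- the Artin-Schreier map -/
def as (h2 : (2 : F) = 0) : F →+ F where
  toFun y := y * y + y
  map_zero' := by simp
  map_add' a b := by linear_combination (a * b) * h2

theorem as_apply (h2 : (2 : F) = 0) (y : F) : as h2 y = y * y + y := rfl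

theorem mem_ker_as (h2 : (2 : F) = 0) {y : F} : y ∈ (as h2).ker ↔ y = 0 ∨ y = 1 := by
  rw [AddMonoidHom.mem_ker, as_apply]
  constructor
  · intro h
    have h1 : y * (y + 1) = 0 := by linear_combination h
    rcases mul_eq_zero.1 h1 with h3 | h3
    · exact Or.inl h3
    · right
      linear_combination h3 - h2
  · rintro (rfl | rfl)
    · simp
    · linear_combination h2

theorem card_ker_as (h2 : (2 : F) = 0) : Nat.card (as h2).ker = 2 := by
  have h : ((as h2).ker : Set F) = {0, 1} := by
    ext y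
    rw [SetLike.mem_coe, mem_ker_as]
    rfl
  have h1 : Nat.card (as h2).ker = Nat.card ({0, 1} : Set F) := by
    rw [← h]; rfl
  rw [h1, Nat.card_coe_set_eq, Set.ncard_pair zero_ne_one]

variable [Finite F]

theorem index_range_as (h2 : (2 : F) = 0) : (as h2).range.index = 2 := by
  have h1 : (as h2).ker.index = Nat.card (as h2).range := AddSubgroup.index_ker _
  have h3 := (as h2).ker.card_mul_index
  have h4 := (as h2).range.card_mul_index
  rw [card_ker_as h2, h1] at h3
  have h5 : 0 < Nat.card (as h2).range := Nat.card_pos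
  rw [← h3, mul_comm 2] at h4
  exact Nat.eq_of_mul_eq_mul_left h5 h4

theorem sq_surjective (h2 : (2 : F) = 0) (c : F) : ∃ d : F, d * d = c := by
  have hinj : Function.Injective (fun d : F => d * d) := by
    intro a b h
    have h1 : (a - b) * (a - b) = 0 := by
      have h' : a * a = b * b := h
      linear_combination h' + (b * b - a * b) * h2
    have := mul_self_eq_zero.1 h1
    exact sub_eq_zero.1 this
  exact (Finite.surjective_of_injective hinj) c

theorem sq_inj (h2 : (2 : F) = 0) {a b : F} (h : a * a = b * b) : a = b := by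
  have h1 : (a - b) * (a - b) = 0 := by
    linear_combination h + (b * b - a * b) * h2
  have := mul_self_eq_zero.1 h1
  exact sub_eq_zero.1 this

/-- `l⁻²` is not of the form `y² + y` iff `Irr l`. -/
theorem irr_of_not_mem (h2 : (2 : F) = 0) {l d : F} (hld : l * d = 1) (h : d * d ∉ (as h2).range) : Irr l := by
  have hl : l ≠ 0 := left_ne_zero_of_mul_eq_one hld
  intro a b hab
  by_cases hb : b = 0
  · subst hb
    have h1 : a * a = 0 := by linear_combination hab
    exact ⟨mul_self_eq_zero.1 h1, rfl⟩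
  · exfalso
    apply h
    refine ⟨a * b⁻¹ * d, ?_⟩
    rw [as_apply]
    have hb1 : b * b⁻¹ = 1 := mul_inv_cancel₀ hb
    have h3 : (a * b⁻¹ * d) * (a * b⁻¹ * d) + a * b⁻¹ * d + d * d = 0 := by
      have e1 : (a * b⁻¹ * d) * (a * b⁻¹ * d) + a * b⁻¹ * d + d * d =
          (b⁻¹ * b⁻¹ * d * d) * (a * a + l * (a * b) + b * b) +
            (a * b⁻¹ * d) * (1 - (l * d) * (b * b⁻¹)) + d * d * (1 - (b * b⁻¹) * (b * b⁻¹)) := by ring
      rw [e1, hab, hld, hb1]
      ring
    linear_combination h3 - (d * d) * h2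

theorem not_mem_of_irr (h2 : (2 : F) = 0) {l d : F} (hld : l * d = 1) (h : Irr l) : d * d ∉ (as h2).range := by
  rintro ⟨y, hy⟩
  rw [as_apply] at hy
  -- `T = l y`: `T² + l T + 1 = l² (y² + y + d²)`
  have h1 : (l * y) * (l * y) + l * ((l * y) * 1) + 1 * 1 = 0 := by
    have e : (l * y) * (l * y) + l * ((l * y) * 1) + 1 * 1 = l * l * (y * y + y) + 1 := by ring
    rw [e, hy]
    have e2 : l * l * (d * d) + 1 = (l * d) * (l * d) + 1 := by ring
    rw [e2, hld]
    linear_combination h2
  exact one_ne_zero (h _ _ h1).2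

/-- **Existence.** -/
theorem exists_irr (h2 : (2 : F) = 0) : ∃ l d : F, l * d = 1 ∧ Irr l := by
  have h : (as h2).range ≠ ⊤ := by
    intro ht
    have := index_range_as h2
    rw [ht, AddSubgroup.index_top] at this
    omega
  obtain ⟨c, -, hc⟩ := SetLike.exists_of_lt (lt_of_le_of_ne le_top h)
  obtain ⟨d, rfl⟩ := sq_surjective h2 c
  have hd : d ≠ 0 := by
    rintro rfl
    apply hc
    rw [mul_zero]
    exact (as h2).range.zero_mem
  exact ⟨d⁻¹, d, inv_mul_cancel₀ hd, irr_of_not_mem h2 (inv_mul_cancel₀ hd) hc⟩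

/-- **No field automorphism of order two fixes `l`.** -/
theorem eq_refl_of_irr (h2 : (2 : F) = 0) {l d : F} (hld : l * d = 1) (h : Irr l) {σ : F ≃+* F}
    (hσ : ∀ a, σ (σ a) = a) (hl : σ l = l) : ∀ a, σ a = a := by
  by_contra hcon
  push Not at hcon
  obtain ⟨t, ht⟩ := hcon
  have hd0 : d ≠ 0 := right_ne_zero_of_mul_eq_one hld
  have hl0 : l ≠ 0 := left_ne_zero_of_mul_eq_one hld
  have hd : σ d = d := by
    have h1 : l * σ d = 1 := by
      have := congrArg σ hld
      rwa [map_mul, hl, map_one] at this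
    exact mul_left_cancel₀ hl0 (h1.trans hld.symm)
  set e := t + σ t with he
  have he0 : e ≠ 0 := by
    intro h0
    apply ht
    rw [he] at h0
    linear_combination h0 - t * h2
  have hσe : σ e = e := by rw [he, map_add, hσ, add_comm]
  -- `d² = u + σ u`
  set u := d * d * (t * e⁻¹) with hu
  have hσei : σ e⁻¹ = e⁻¹ := by rw [map_inv₀, hσe]
  have h1 : u + σ u = d * d := by
    rw [hu, map_mul, map_mul, map_mul, hd, hσei]
    have h3 : d * d * (t * e⁻¹) + d * d * (σ t * e⁻¹) = d * d * (e * e⁻¹) := by rw [he]; ring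
    rw [h3, mul_inv_cancel₀ he0, mul_one]
  have hmem : ∀ w, w ∈ (as h2).range ↔ σ w ∈ (as h2).range := by
    have h3 : ∀ w, w ∈ (as h2).range → σ w ∈ (as h2).range := by
      rintro _ ⟨y, rfl⟩
      exact ⟨σ y, by rw [as_apply, as_apply, map_add, map_mul]⟩
    intro w
    refine ⟨h3 w, fun hw => ?_⟩
    have := h3 _ hw
    rwa [hσ] at this
  apply not_mem_of_irr h2 hld h
  rw [← h1]
  exact (AddSubgroup.add_mem_iff_of_index_two (index_range_as h2)).2 (hmem u)

end Cfsg.Agent.H739.SK.Om
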