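import Mathlib
import Cfsg.Agent.LieClassical.OrthTrans
import Cfsg.Agent.Lib.PGroupFixedVector
import Cfsg.Agent.H739.SK.OmField

/-!
# S3010, orthogonal groups in characteristic two: the odd element inverted by an involution (helper739)

`v` an isometry with `v² = 1`, `N = v + 1`, `Y ⊇ N V`, `j : Y → V` a section of `N` with `Q (j z) = d Q z`, `l d = 1`,
`ζ : V → Y` with `B(j (ζ w), z) = B(w, j z)`. Then `v' w = w + l j (ζ w)` is an isometry with `v'² = 1`, and
`x = v v'` has odd order, is inverted by `v`, and `x + x⁻¹ = l P`, `P w = ζ w + j (N w)` the projection onto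
`U = Y + j Y`.
-/

set_option autoImplicit false
set_option linter.unusedSectionVars false

namespace Cfsg.Agent.H739.SK.Om

open QuadraticMap Cfsg.Agent.LieClassical.OrthCore Cfsg.Agent.LieClassical.OrthTrans

variable {F V : Type*} [Field F] [AddCommGroup V] [Module F V] {Q : QuadraticForm F V}

theorem vadd_self (h2 : (2 : F) = 0) (w : V) : w + w = 0 := by
  rw [← two_smul F w, h2, zero_smul]

theorem vneg (h2 : (2 : F) = 0) (w : V) : -w = w := neg_eq_of_add_eq_zero_left (vadd_self h2 w)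

theorem vsub (h2 : (2 : F) = 0) (u w : V) : u - w = u + w := by rw [sub_eq_add_neg, vneg h2]

theorem polar_self0 (h2 : (2 : F) = 0) (u : V) : polar Q u u = 0 := by rw [polar_self', h2, zero_mul]

theorem eq_of_add_zero (h2 : (2 : F) = 0) {u w : V} (h : u + w = 0) : u = w := by
  rw [← vneg h2 w]; exact eq_neg_of_add_eq_zero_left h

/-- The data. -/
structure XD (Q : QuadraticForm F V) (l d : F) (v : V ≃ₗ[F] V) (Y : Submodule F V) (j : Y →ₗ[F] V)
    (ζ : V →ₗ[F] Y) : Prop where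
  two : (2 : F) = 0
  nd : Nondeg Q
  hO : v ∈ O Q
  vv : ∀ w, v (v w) = w
  mem : ∀ w, v w + w ∈ Y
  sec : ∀ z : Y, v (j z) + j z = z
  sq : ∀ z : Y, Q (j z) = d * Q z
  ld : l * d = 1
  zeta : ∀ (w : V) (z : Y), polar Q (j (ζ w)) z = polar Q w (j z)

namespace XD

variable {l d : F} {v : V ≃ₗ[F] V} {Y : Submodule F V} {j : Y →ₗ[F] V} {ζ : V →ₗ[F] Y}

theorem l_ne (h : XD Q l d v Y j ζ) : l ≠ 0 := left_ne_zero_of_mul_eq_one h.ld

theorem selfadj (h : XD Q l d v Y j ζ) (w y : V) : polar Q (v w + w) y = polar Q w (v y + y) := by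
  have h1 : polar Q (v w) y = polar Q w (v y) := by
    have := polar_map h.hO w (v y)
    rwa [h.vv] at this
  rw [polar_add_left, polar_add_right, h1]

/-- `N` as a map to `Y` -/
def N (h : XD Q l d v Y j ζ) : V →ₗ[F] Y :=
  LinearMap.codRestrict Y (v.toLinearMap + LinearMap.id) (fun w => h.mem w)

theorem N_apply (h : XD Q l d v Y j ζ) (w : V) : (h.N w : V) = v w + w := rfl

theorem N_j (h : XD Q l d v Y j ζ) (z : Y) : h.N (j z) = z := Subtype.ext (h.sec z)

theorem v_Y (h : XD Q l d v Y j ζ) (z : Y) : v z = z := by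
  have h1 := h.sec z
  rw [← h1, map_add, h.vv, add_comm]

theorem N_Y (h : XD Q l d v Y j ζ) (z : Y) : h.N z = 0 := by
  apply Subtype.ext
  rw [h.N_apply, h.v_Y, vadd_self h.two]
  rfl

theorem polar_N (h : XD Q l d v Y j ζ) (w y : V) : polar Q (h.N w : V) y = polar Q w (h.N y : V) :=
  h.selfadj w y

theorem polar_Y (h : XD Q l d v Y j ζ) (z z' : Y) : polar Q (z : V) z' = 0 := by
  have h1 : (z : V) = (h.N (j z) : V) := by rw [h.N_j]
  rw [h1, h.polar_N, h.N_Y]
  exact polar_zero_right _ _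

theorem polar_j (h : XD Q l d v Y j ζ) (z z' : Y) : polar Q (j z) (j z') = 0 := by
  have h1 : polar Q (j z) (j z') = d * polar Q (z : V) z' := by
    have h3 : ((z + z' : Y) : V) = (z : V) + z' := rfl
    simp only [polar]
    rw [← map_add j, h.sq, h.sq, h.sq, h3]
    ring
  rw [h1, h.polar_Y, mul_zero]

theorem Q_N (h : XD Q l d v Y j ζ) (w : V) : Q (h.N w : V) = polar Q w (h.N w : V) := by
  rw [h.N_apply, Q_add, polar_add_right, mem_O.1 h.hO, polar_comm Q (v w) w, polar_self0 h.two]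
  linear_combination (Q w) * h.two

theorem polar_jz (h : XD Q l d v Y j ζ) (z : Y) : polar Q (j z) z = Q z := by
  have h1 := h.Q_N (j z)
  rw [h.N_j] at h1
  exact h1.symm

theorem polar_sym (h : XD Q l d v Y j ζ) (z z' : Y) : polar Q (j z) z' = polar Q (j z') z := by
  have h1 : (z' : V) = (h.N (j z') : V) := by rw [h.N_j]
  have h3 : (z : V) = (h.N (j z) : V) := by rw [h.N_j]
  rw [h1, ← h.polar_N, h.N_j, polar_comm]

theorem inj0 (h : XD Q l d v Y j ζ) {z : Y} (hz : ∀ z' : Y, polar Q (j z) z' = 0) : z = 0 := by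
  apply Subtype.ext
  apply h.nd
  intro w
  have h3 : (z : V) = (h.N (j z) : V) := by rw [h.N_j]
  rw [h3, h.polar_N]
  exact hz _

theorem zeta_Y (h : XD Q l d v Y j ζ) (z : Y) : ζ z = z := by
  rw [← sub_eq_zero]
  apply h.inj0
  intro z'
  rw [map_sub, polar_sub_left, h.zeta, polar_comm, h.polar_sym, sub_self]

theorem zeta_j (h : XD Q l d v Y j ζ) (z : Y) : ζ (j z) = 0 := by
  apply h.inj0
  intro z'
  rw [h.zeta, h.polar_j]

/-- the opposite involution -/
def v' (h : XD Q l d v Y j ζ) : V ≃ₗ[F] V :=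
  LinearEquiv.ofLinearMap (LinearMap.id + l • (j ∘ₗ ζ)) (LinearMap.id + l • (j ∘ₗ ζ))
    (by
      ext w
      have h1 := h.zeta_j (ζ w)
      simp only [LinearMap.comp_apply, LinearMap.add_apply, LinearMap.id_apply, LinearMap.smul_apply, map_add,
        map_smul, h1, map_zero, smul_zero, add_zero]
      rw [add_assoc, vadd_self h.two, add_zero])
    (by
      ext w
      have h1 := h.zeta_j (ζ w)
      simp only [LinearMap.comp_apply, LinearMap.add_apply, LinearMap.id_apply, LinearMap.smul_apply, map_add,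
        map_smul, h1, map_zero, smul_zero, add_zero]
      rw [add_assoc, vadd_self h.two, add_zero])

theorem v'_apply (h : XD Q l d v Y j ζ) (w : V) : h.v' w = w + l • j (ζ w) := rfl

theorem v'_v' (h : XD Q l d v Y j ζ) (w : V) : h.v' (h.v' w) = w := by
  exact h.v'.apply_symm_apply w

theorem v'_mem_O (h : XD Q l d v Y j ζ) : h.v' ∈ O Q := by
  intro w
  rw [h.v'_apply, Q_add, QuadraticMap.map_smul, h.sq, polar_smul_right, ← h.zeta w (ζ w), h.polar_jz]
  have h1 := h.ld
  simp only [smul_eq_mul]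
  linear_combination (l * Q (ζ w : V)) * h1 + (l * Q (ζ w : V)) * h.two

/-- the element of odd order -/
def x (h : XD Q l d v Y j ζ) : V ≃ₗ[F] V := v * h.v'

theorem x_apply (h : XD Q l d v Y j ζ) (w : V) : h.x w = v (h.v' w) := rfl

theorem x_mem_O (h : XD Q l d v Y j ζ) : h.x ∈ O Q := (O Q).mul_mem h.hO h.v'_mem_O

theorem x_inv (h : XD Q l d v Y j ζ) : h.x⁻¹ = h.v' * v := by
  rw [inv_eq_iff_mul_eq_one]
  ext w
  show v (h.v' (h.v' (v w))) = w
  rw [h.v'_v', h.vv]

theorem x_inv_apply (h : XD Q l d v Y j ζ) (w : V) : h.x⁻¹ w = h.v' (v w) := by rw [h.x_inv]; rfl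

theorem v_inv (h : XD Q l d v Y j ζ) : v⁻¹ = v := by
  rw [inv_eq_iff_mul_eq_one]
  ext w
  exact h.vv w

theorem v_x_v (h : XD Q l d v Y j ζ) : v * h.x * v⁻¹ = h.x⁻¹ := by
  rw [h.x_inv, h.v_inv]
  ext w
  show v (v (h.v' (v w))) = h.v' (v w)
  rw [h.vv]

/-- the projection -/
def P (h : XD Q l d v Y j ζ) : V →ₗ[F] V := Y.subtype ∘ₗ ζ + j ∘ₗ h.N

theorem P_apply (h : XD Q l d v Y j ζ) (w : V) : h.P w = (ζ w : V) + j (h.N w) := rfl

theorem v_eq (h : XD Q l d v Y j ζ) (w : V) : v w = w + (h.N w : V) := by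
  rw [h.N_apply, add_comm (v w) w, ← add_assoc, vadd_self h.two, zero_add]

theorem N_P (h : XD Q l d v Y j ζ) (w : V) : h.N (h.P w) = h.N w := by
  rw [h.P_apply, map_add, h.N_Y, h.N_j, zero_add]

theorem zeta_P (h : XD Q l d v Y j ζ) (w : V) : ζ (h.P w) = ζ w := by
  rw [h.P_apply, map_add, h.zeta_Y, h.zeta_j, add_zero]

theorem P_P (h : XD Q l d v Y j ζ) (w : V) : h.P (h.P w) = h.P w := by
  rw [h.P_apply (h.P w), h.N_P, h.zeta_P, ← h.P_apply]

theorem P_Y (h : XD Q l d v Y j ζ) (z : Y) : h.P z = z := by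
  rw [h.P_apply, h.zeta_Y, h.N_Y, map_zero, add_zero]

theorem P_j (h : XD Q l d v Y j ζ) (z : Y) : h.P (j z) = j z := by
  rw [h.P_apply, h.zeta_j, h.N_j]
  simp

theorem x_apply' (h : XD Q l d v Y j ζ) (w : V) : h.x w = v w + l • ((ζ w : V) + j (ζ w)) := by
  rw [h.x_apply, h.v'_apply, map_add, map_smul, h.v_eq (j (ζ w)), h.N_j, add_comm (j (ζ w))]

theorem x_inv_apply' (h : XD Q l d v Y j ζ) (w : V) :
    h.x⁻¹ w = v w + l • (j (ζ w) + j (h.N w)) := by
  rw [h.x_inv_apply, h.v'_apply, h.v_eq w, map_add, h.zeta_Y, map_add]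

/-- `x + x⁻¹ = l P` -/
theorem x_add (h : XD Q l d v Y j ζ) (w : V) : h.x w + h.x⁻¹ w = l • h.P w := by
  rw [h.x_apply', h.x_inv_apply', h.P_apply]
  have e : v w + l • ((ζ w : V) + j (ζ w)) + (v w + l • (j (ζ w) + j (h.N w))) =
      (v w + v w) + l • (((ζ w : V) + j (h.N w)) + (j (ζ w) + j (ζ w))) := by module
  rw [e, vadd_self h.two, vadd_self h.two, zero_add, add_zero]

/-- `P w = 0` iff `w` is fixed by `v` and `v'` -/
theorem P_eq_zero (h : XD Q l d v Y j ζ) {w : V} : h.P w = 0 ↔ h.N w = 0 ∧ ζ w = 0 := by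
  constructor
  · intro hw
    have h1 := h.N_P w
    have h3 := h.zeta_P w
    rw [hw, map_zero] at h1 h3
    exact ⟨h1.symm, h3.symm⟩
  · rintro ⟨h1, h3⟩
    rw [h.P_apply, h1, h3, map_zero]
    simp

theorem v_of_P (h : XD Q l d v Y j ζ) {w : V} (hw : h.P w = 0) : v w = w := by
  rw [h.v_eq, (h.P_eq_zero.1 hw).1]
  simp

theorem v'_of_P (h : XD Q l d v Y j ζ) {w : V} (hw : h.P w = 0) : h.v' w = w := by
  rw [h.v'_apply, (h.P_eq_zero.1 hw).2]
  simp

theorem x_of_P (h : XD Q l d v Y j ζ) {w : V} (hw : h.P w = 0) : h.x w = w := by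
  rw [h.x_apply, h.v'_of_P hw, h.v_of_P hw]

theorem P_add_self (h : XD Q l d v Y j ζ) (w : V) : h.P (w + h.P w) = 0 := by
  rw [map_add, h.P_P, vadd_self h.two]

theorem x_eq (h : XD Q l d v Y j ζ) (w : V) : h.x w = w + h.P w + h.x (h.P w) := by
  have h1 := h.x_of_P (h.P_add_self w)
  rw [map_add] at h1
  rw [← h1, add_assoc, vadd_self h.two, add_zero]

theorem x_x (h : XD Q l d v Y j ζ) (w : V) : h.x (h.x w) = l • h.x (h.P w) + w := by
  have h1 := congrArg h.x (h.x_add w)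
  rw [map_add, map_smul] at h1
  have h3 : h.x (h.x⁻¹ w) = w := h.x.apply_symm_apply w
  rw [h3] at h1
  rw [← h1, add_assoc, vadd_self h.two, add_zero]

theorem x_pow (h : XD Q l d v Y j ζ) (m : ℕ) :
    ∃ a b : F, ∀ w, (h.x ^ m) w = w + a • h.x (h.P w) + b • h.P w := by
  induction m with
  | zero => exact ⟨0, 0, fun w => by simp⟩
  | succ m ih =>
    obtain ⟨a, b, hab⟩ := ih
    refine ⟨1 + l * a + b, 1 + a, fun w => ?_⟩
    rw [pow_succ']
    show h.x ((h.x ^ m) w) = _
    rw [hab, map_add, map_add, map_smul, map_smul, h.x_x, h.P_P, h.x_eq w]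
    module

theorem x_P_Y (h : XD Q l d v Y j ζ) (z : Y) : h.x z = (1 + l) • (z : V) + l • j z := by
  rw [h.x_apply', h.v_Y, h.zeta_Y]
  module

theorem eq_one_of_sq (h : XD Q l d v Y j ζ) {z : Y} (hz : z ≠ 0) {m : ℕ}
    (hm : ∀ w, (h.x ^ m) ((h.x ^ m) w) = w) : h.x ^ m = 1 := by
  obtain ⟨a, b, hab⟩ := h.x_pow m
  -- apply to `z`
  have h1 := hm z
  have h3 : (h.x ^ m) (z : V) = z + a • h.x z + b • (z : V) := by rw [hab, h.P_Y]
  have h4 : (h.x ^ m) (h.x (z : V)) = h.x z + a • (l • h.x z + (z : V)) + b • h.x z := by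
    have h5 : (h.x ^ m) (h.x (z : V)) = h.x ((h.x ^ m) (z : V)) := by
      show (h.x ^ m * h.x) (z : V) = (h.x * h.x ^ m) (z : V)
      rw [← pow_succ, ← pow_succ']
    rw [h5, h3, map_add, map_add, map_smul, map_smul, h.x_x, h.P_Y]
  rw [h3, map_add, map_add, map_smul, map_smul, h3, h4, h.x_P_Y] at h1
  -- coefficients
  have h6 : (a * a * l * (1 + l) + a * a + b * b) • (z : V) + (a * a * l * l) • j z = 0 := by
    have e : (a * a * l * (1 + l) + a * a + b * b) • (z : V) + (a * a * l * l) • j z =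
        ((z : V) + a • ((1 + l) • (z : V) + l • j z) + b • (z : V) +
        a • ((1 + l) • (z : V) + l • j z + a • (l • ((1 + l) • (z : V) + l • j z) + (z : V)) +
          b • ((1 + l) • (z : V) + l • j z)) +
        b • ((z : V) + a • ((1 + l) • (z : V) + l • j z) + b • (z : V))) -
        (z : V) - (2 : F) • ((a * (1 + l) + b + a * b * (1 + l)) • (z : V) + (a * l + a * b * l) • j z) := by
      module
    rw [e, h1, h.two]
    simp
  have h7 : a * a * l * l = 0 := by
    have h8 := congrArg (fun t => (h.N t : V)) h6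
    simp only [map_add, map_smul, h.N_Y, h.N_j, map_zero, smul_zero, zero_add] at h8
    rw [Submodule.coe_smul] at h8
    rcases smul_eq_zero.1 (h8.trans rfl) with h9 | h9
    · exact h9
    · exact absurd (Subtype.ext h9) hz
  have hl := h.l_ne
  have ha : a = 0 := by
    have h8 : a * a = 0 := by
      have h9 : (a * a) * (l * l) = 0 := by rw [← h7]; ring
      rcases mul_eq_zero.1 h9 with h10 | h10
      · exact h10
      · exact absurd (mul_self_eq_zero.1 h10) hl
    exact mul_self_eq_zero.1 h8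
  subst ha
  have hb : b = 0 := by
    have h8 : (b * b) • (z : V) = 0 := by
      have e : (0 * 0 * l * (1 + l) + 0 * 0 + b * b) • (z : V) + (0 * 0 * l * l) • j z = (b * b) • (z : V) := by
        module
      rw [← e]; exact h6
    rcases smul_eq_zero.1 h8 with h9 | h9
    · exact mul_self_eq_zero.1 h9
    · exact absurd (Subtype.ext h9) hz
  subst hb
  ext w
  rw [hab]
  simp

theorem x_ne_one (h : XD Q l d v Y j ζ) {z : Y} (hz : z ≠ 0) : h.x ≠ 1 := by
  intro h1
  have h3 := h.x_P_Y z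
  rw [h1] at h3
  have h4 : (z : V) = (1 + l) • (z : V) + l • j z := h3
  have h5 := congrArg (fun t => (h.N t : V)) h4
  simp only [map_add, map_smul, h.N_Y, h.N_j, smul_zero, zero_add] at h5
  rw [Submodule.coe_smul] at h5
  rcases smul_eq_zero.1 h5.symm with h9 | h9
  · exact h.l_ne h9
  · exact hz (Subtype.ext h9)

theorem odd_x (h : XD Q l d v Y j ζ) [Finite (V ≃ₗ[F] V)] {z : Y} (hz : z ≠ 0) : Odd (orderOf h.x) := by
  by_contra hodd
  rw [Nat.not_odd_iff_even] at hodd
  obtain ⟨m, hm⟩ := hodd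
  have hpos : 0 < orderOf h.x := orderOf_pos _
  have h1 : h.x ^ m = 1 := by
    apply h.eq_one_of_sq hz
    intro w
    have h3 : h.x ^ m * h.x ^ m = 1 := by rw [← pow_add, ← hm, pow_orderOf_eq_one]
    exact LinearEquiv.congr_fun h3 w
  have h3 := orderOf_dvd_of_pow_eq_one h1
  have h4 := Nat.le_of_dvd (by omega) h3
  omega

end XD

end Cfsg.Agent.H739.SK.Om
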