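import Cfsg.Agent.H739.SK.OmNF
import Cfsg.Agent.H199.Out.Dick

/-!
# S3010, orthogonal groups in characteristic two: involutions of type `c`, reflections (helper739)
-/

set_option autoImplicit false
set_option linter.unusedSectionVars false
set_option linter.unusedVariables false

namespace Cfsg.Agent.H739.SK.Om

open QuadraticMap Cfsg.Agent.LieClassical.OrthCore Cfsg.Agent.LieClassical.OrthTrans
open Module (finrank)

variable {F V : Type*} [Field F] [AddCommGroup V] [Module F V] {Q : QuadraticForm F V}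

/-! ### the Dickson invariant -/

section Dickson

variable [CharP F 2]

theorem altB (hnd : Nondeg Q) : H375.Odd.Alt (polarBilin Q : V →ₗ[F] V →ₗ[F] F) :=
  ⟨fun v => polar_self0 CharTwo.two_eq_zero v, fun u hu => hnd u hu⟩

theorem qfB (Q : QuadraticForm F V) : H375.Odd.QF (⇑Q) (polarBilin Q : V →ₗ[F] V →ₗ[F] F) :=
  ⟨fun u v => Q_add u v, fun c v => by rw [QuadraticMap.map_smul, smul_eq_mul, pow_two]⟩

variable [FiniteDimensional F V]

/-- the isometries with `g - 1` of even rank -/
def Dk (hnd : Nondeg Q) : Subgroup (V ≃ₗ[F] V) := H199.Out.OM (altB hnd) (qfB Q)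

theorem mem_Dk {hnd : Nondeg Q} {g : V ≃ₗ[F] V} : g ∈ Dk hnd ↔ g ∈ O Q ∧ Even (finrank F (H375.Odd.bW g)) := Iff.rfl

theorem E_le_Dk (hG : Good Q) : E Q ≤ Dk hG.nondeg := by
  rw [← hG.commutator_eq_E, Subgroup.commutator_le]
  intro f hf g hg
  rw [commutatorElement_def, mul_assoc, mul_assoc]
  by_cases h : f ∈ Dk hG.nondeg
  · apply (Dk hG.nondeg).mul_mem h
    rw [← mul_assoc]
    exact H199.Out.conj_mem_OM _ _ ((Dk hG.nondeg).inv_mem h) hg
  · refine H199.Out.mul_mem_OM _ _ hf ?_ h ?_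
    · exact (O Q).mul_mem hg ((O Q).mul_mem ((O Q).inv_mem hf) ((O Q).inv_mem hg))
    · intro h1
      apply h
      have h3 : g * (f⁻¹ * g⁻¹) = g * f⁻¹ * g⁻¹ := by group
      rw [h3] at h1
      have h4 := H199.Out.conj_mem_OM (altB hG.nondeg) (qfB Q) h1 ((O Q).inv_mem hg)
      have h5 : g⁻¹ * (g * f⁻¹ * g⁻¹) * g⁻¹⁻¹ = f⁻¹ := by group
      rw [h5] at h4
      exact ((Dk hG.nondeg).inv_mem_iff).1 h4

theorem refl_notMem_Dk (hnd : Nondeg Q) {a : V} (ha : Q a ≠ 0) : refl Q a ha ∉ Dk hnd := by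
  have h : refl Q a ha = H199.Out.reflE (altB hnd) a (Q a)⁻¹ := by
    ext w
    show refl Q a ha w = _
    rw [refl_apply, H199.Out.reflE_apply, vsub (CharTwo.two_eq_zero (R := F))]
    rfl
  rw [h]
  exact H199.Out.reflE_notMem (altB hnd) (qfB Q) ha

theorem bW_eq (v : V ≃ₗ[F] V) : H375.Odd.bW v = LinearMap.range (v.toLinearMap + LinearMap.id) := by
  unfold H375.Odd.bW
  congr 1
  ext w
  show v w - w = v w + w
  exact vsub (CharTwo.two_eq_zero (R := F)) _ _

/-- the product of two isometries outside `E Q` -/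
theorem mul_mem_Dk (hnd : Nondeg Q) {f g : V ≃ₗ[F] V} (hf : f ∈ O Q) (hg : g ∈ O Q) (hf' : f ∉ Dk hnd)
    (hg' : g ∉ Dk hnd) : f * g ∈ Dk hnd := H199.Out.mul_mem_OM _ _ hf hg hf' hg'

end Dickson

/-- `E Q` has index at most two in `O Q` -/
theorem mem_E_or [FiniteDimensional F V] [Finite F] (h2 : (2 : F) = 0) (hG : Good Q) {a : V} (ha : Q a ≠ 0) :
    ∀ g ∈ O Q, g ∈ E Q ∨ refl Q a ha * g ∈ E Q := by
  intro g hg
  rw [O_eq_closure hG.nondeg] at hg
  have hnorm : ∀ x ∈ E Q, refl Q a ha * x * refl Q a ha ∈ E Q := by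
    intro x hx
    have := conj_mem_E (refl_mem_O ha) hx
    rwa [refl_inv] at this
  have hstep : ∀ (b : V) (hb : Q b ≠ 0), refl Q a ha * refl Q b hb ∈ E Q := by
    intro b hb
    obtain ⟨c, hc0, hc⟩ := exists_scale h2 hb ha
    have hcb : Q (c • b) ≠ 0 := by rw [hc]; exact ha
    rw [← smul_refl hb hcb]
    exact hG.refl_mul_refl_mem hcb ha hc
  induction hg using Subgroup.closure_induction with
  | mem x hx =>
    rcases hx with ⟨b, hb, rfl⟩ | ⟨u, w, hu, hw, rfl⟩
    · exact Or.inr (hstep b hb)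
    · exact Or.inl (siegel_mem_E _ _)
  | one => exact Or.inl (E Q).one_mem
  | mul x y hx hy ihx ihy =>
    rcases ihx with h1 | h1
    · rcases ihy with h3 | h3
      · exact Or.inl ((E Q).mul_mem h1 h3)
      · right
        have e : refl Q a ha * (x * y) = (refl Q a ha * x * refl Q a ha) * (refl Q a ha * y) := by
          have := refl_mul_self ha
          calc refl Q a ha * (x * y) = refl Q a ha * x * 1 * y := by group
            _ = refl Q a ha * x * (refl Q a ha * refl Q a ha) * y := by rw [this]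
            _ = _ := by group
        rw [e]
        exact (E Q).mul_mem (hnorm x h1) h3
    · rcases ihy with h3 | h3
      · right
        rw [← mul_assoc]
        exact (E Q).mul_mem h1 h3
      · left
        have e : x * y = (refl Q a ha * (refl Q a ha * x) * refl Q a ha) * (refl Q a ha * y) := by
          have := refl_mul_self ha
          calc x * y = 1 * x * 1 * y := by group
            _ = (refl Q a ha * refl Q a ha) * x * (refl Q a ha * refl Q a ha) * y := by rw [this]
            _ = _ := by group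
        rw [e]
        exact (E Q).mul_mem (hnorm _ h1) h3
  | inv x hx ih =>
    rcases ih with h1 | h1
    · exact Or.inl ((E Q).inv_mem h1)
    · right
      have e : refl Q a ha * x⁻¹ = refl Q a ha * (refl Q a ha * x)⁻¹ * refl Q a ha := by
        rw [mul_inv_rev, refl_inv, mul_assoc, mul_assoc, refl_mul_self, mul_one]
      rw [e]
      exact hnorm _ ((E Q).inv_mem h1)

namespace XD

variable {l d : F} {v : V ≃ₗ[F] V} {Y : Submodule F V} {j : Y →ₗ[F] V} {ζ : V →ₗ[F] Y}

/-- odd dimension of `Y` gives (★) -/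
theorem star_of_odd [FiniteDimensional F V] [Finite F] (h : XD Q l d v Y j ζ) (hodd : Odd (finrank F Y)) :
    Star Q Y j := by
  intro u hu hQu
  by_contra hu0
  have hsing : ∀ z : Y, polar Q (j z) u = 0 → Q (z : V) = 0 := by
    intro z₁ hz₁
    by_contra hne
    apply hu0
    apply h.inj0
    intro y
    obtain ⟨c, hc⟩ := sq_surjective h.two (Q (y : V) * (Q (z₁ : V))⁻¹)
    have h1 : Q ((y + c • z₁ : Y) : V) = 0 := by
      rw [Submodule.coe_add, Submodule.coe_smul, Q_add, QuadraticMap.map_smul, polar_smul_right, h.polar_Y,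
        smul_zero, add_zero, hc, smul_eq_mul, mul_assoc, inv_mul_cancel₀ hne, mul_one]
      exact add_self h.two _
    have h3 := hu _ h1
    rw [map_add, map_smul, polar_add_left, polar_smul_left, hz₁, smul_zero, add_zero] at h3
    rw [h.polar_sym]
    exact h3
  -- a partner of `u`
  obtain ⟨m, hm⟩ : ∃ m : Y, polar Q (j m) u = 1 := by
    by_contra hcon
    push Not at hcon
    apply hu0
    apply h.inj0
    intro y
    rw [h.polar_sym]
    by_contra hne
    apply hcon ((polar Q (j y) u)⁻¹ • y)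
    rw [map_smul, polar_smul_left, smul_eq_mul, inv_mul_cancel₀ hne]
  -- the map `z ↦ (B(jz,u), B(jz,m))`
  let f : Y →ₗ[F] F × F :=
    { toFun := fun z => (polar Q (j z) (u : V), polar Q (j z) (m : V))
      map_add' := fun z z' => by
        rw [map_add, polar_add_left, polar_add_left]; rfl
      map_smul' := fun c z => by
        rw [map_smul, polar_smul_left, polar_smul_left]; rfl }
  have hf : ∀ z, f z = (polar Q (j z) (u : V), polar Q (j z) (m : V)) := fun z => rfl
  have hum : polar Q (j u) m = 1 := by rw [h.polar_sym]; exact hm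
  have huu : polar Q (j u) u = 0 := by rw [h.polar_jz]; exact hQu
  have hsurj : Function.Surjective f := by
    rintro ⟨s, t⟩
    refine ⟨s • m + (t + s * Q (m : V)) • u, ?_⟩
    rw [hf, map_add, map_smul, map_smul, polar_add_left, polar_add_left, polar_smul_left, polar_smul_left,
      polar_smul_left, polar_smul_left, hm, huu, hum, h.polar_jz]
    simp only [smul_eq_mul]
    apply Prod.ext
    · show s * 1 + (t + s * Q (m : V)) * 0 = s
      ring
    · show s * Q (m : V) + (t + s * Q (m : V)) * 1 = t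
      linear_combination (s * Q (m : V)) * h.two
  have hrank := LinearMap.finrank_range_add_finrank_ker f
  rw [LinearMap.range_eq_top.2 hsurj, finrank_top, Module.finrank_prod, Module.finrank_self] at hrank
  -- the form on `ker f` is alternating and nondegenerate
  let β : LinearMap.BilinForm F (LinearMap.ker f) :=
    (frm Q j).compl₁₂ (LinearMap.ker f).subtype (LinearMap.ker f).subtype
  have hβ : ∀ z z' : LinearMap.ker f, β z z' = polar Q (j z) ((z' : Y) : V) := fun z z' => rfl
  have hmem : ∀ z : LinearMap.ker f, polar Q (j z) u = 0 ∧ polar Q (j z) m = 0 := by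
    intro z
    have h1 := z.2
    rw [LinearMap.mem_ker, hf] at h1
    exact ⟨congrArg Prod.fst h1, congrArg Prod.snd h1⟩
  have halt : β.IsAlt := by
    intro z
    rw [hβ, h.polar_jz]
    exact hsing _ (hmem z).1
  obtain ⟨n, hn⟩ := ClassicalGeometry.TwoFamilies.exists_finrank_eq_ker_add β halt
  have hker : LinearMap.ker β = ⊥ := by
    rw [LinearMap.ker_eq_bot']
    intro z hz
    apply Subtype.ext
    apply h.inj0
    intro y
    -- `y = y' + s m + t u`
    obtain ⟨s, t, hst⟩ : ∃ s t : F, y + s • m + t • u ∈ LinearMap.ker f := by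
      refine ⟨polar Q (j y) u, polar Q (j y) m + polar Q (j y) u * Q (m : V), ?_⟩
      rw [LinearMap.mem_ker, hf, map_add, map_add, map_smul, map_smul]
      simp only [polar_add_left, polar_smul_left, hm, huu, hum, h.polar_jz, smul_eq_mul]
      apply Prod.ext
      · show polar Q (j y) (u : V) + polar Q (j y) (u : V) * 1 + _ * 0 = 0
        linear_combination (polar Q (j y) (u : V)) * h.two
      · show polar Q (j y) (m : V) + polar Q (j y) (u : V) * Q (m : V) + (polar Q (j y) (m : V) +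
          polar Q (j y) (u : V) * Q (m : V)) * 1 = 0
        linear_combination (polar Q (j y) (m : V) + polar Q (j y) (u : V) * Q (m : V)) * h.two
    have h1 : β z ⟨_, hst⟩ = 0 := by rw [hz]; rfl
    rw [hβ] at h1
    have h3 : polar Q (j (z : Y)) ((y + s • m + t • u : Y) : V) = polar Q (j (z : Y)) (y : V) := by
      rw [Submodule.coe_add, Submodule.coe_add, Submodule.coe_smul, Submodule.coe_smul, polar_add_right,
        polar_add_right, polar_smul_right, polar_smul_right, (hmem z).1, (hmem z).2]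
      simp
    rw [← h3]
    exact h1
  rw [hker, finrank_bot, zero_add] at hn
  rw [hn] at hrank
  rw [← hrank] at hodd
  exact absurd hodd (by rw [Nat.not_odd_iff_even]; exact ⟨1 + n, by omega⟩)

end XD

/-! ### type `c` -/

/-- **type `c`** : `v ∈ E Q`, `v² = 1`, `B(y, v y) ≠ 0` for some `y`. -/
theorem exists_XD_c [FiniteDimensional F V] [Finite F] (h2 : (2 : F) = 0) (hG : Good Q) {l d : F} (hld : l * d = 1)
    {v : V ≃ₗ[F] V} (hE : v ∈ E Q) (vv : ∀ w, v (v w) = w) {y₀ : V} (hy₀ : polar Q y₀ (v y₀) ≠ 0) :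
    ∃ (a : V) (ha : Q a ≠ 0) (v₁ : V ≃ₗ[F] V) (Y : Submodule F V) (j : Y →ₗ[F] V) (ζ : V →ₗ[F] Y)
      (h : XD Q l d v₁ Y j ζ), XD.Star Q Y j ∧ Y ≠ ⊥ ∧ h.P a = 0 ∧ v = v₁ * refl Q a ha := by
  have : CharP F 2 := CharTwo.of_one_ne_zero_of_two_eq_zero one_ne_zero h2
  have hO : v ∈ O Q := E_le_O hE
  set a := v y₀ + y₀ with ha'
  have hQa : Q a = polar Q y₀ (v y₀) := by
    rw [ha', Q_add, mem_O.1 hO, polar_comm Q (v y₀) y₀]
    linear_combination (Q y₀) * h2
  have ha : Q a ≠ 0 := by rw [hQa]; exact hy₀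
  have hva : v a = a := by rw [ha', map_add, vv, add_comm]
  have hay₀ : polar Q a y₀ = Q a := by
    rw [ha', polar_add_left, polar_self0 h2, add_zero, ← ha', hQa, polar_comm]
  have hraa : refl Q a ha a = a := by
    rw [refl_apply, polar_self0 h2, mul_zero, zero_smul, sub_zero]
  have hcomm : v * refl Q a ha = refl Q a ha * v := by
    ext w
    show v (refl Q a ha w) = refl Q a ha (v w)
    have h1 : polar Q a (v w) = polar Q a w := by
      have := polar_map hO a w
      rwa [hva] at this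
    rw [refl_apply, refl_apply, map_sub, map_smul, hva, h1]
  set v₁ := v * refl Q a ha with hv₁
  have hv₁a : ∀ w, v₁ w = v w + ((Q a)⁻¹ * polar Q a w) • a := by
    intro w
    show v (refl Q a ha w) = _
    rw [refl_apply, map_sub, map_smul, hva, vsub h2]
  have hO₁ : v₁ ∈ O Q := (O Q).mul_mem hO (refl_mem_O ha)
  have vv₁ : ∀ w, v₁ (v₁ w) = w := by
    intro w
    have h1 : v₁ * v₁ = 1 := by
      have h3 : v * v = 1 := by ext w; exact vv w
      calc v₁ * v₁ = v * (refl Q a ha * v) * refl Q a ha := by rw [hv₁]; group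
        _ = v * (v * refl Q a ha) * refl Q a ha := by rw [← hcomm, hv₁]
        _ = (v * v) * (refl Q a ha * refl Q a ha) := by group
        _ = 1 := by rw [h3, refl_mul_self, mul_one]
    exact LinearEquiv.congr_fun h1 w
  set Y := LinearMap.range (v₁.toLinearMap + LinearMap.id) with hY
  have mem : ∀ w, v₁ w + w ∈ Y := fun w => ⟨w, rfl⟩
  obtain ⟨s, hs⟩ := exists_section v₁
  have hNy₀ : v₁ y₀ + y₀ = 0 := by
    rw [hv₁a, hay₀, inv_mul_cancel₀ ha, one_smul, add_right_comm, ← ha']
    exact vadd_self h2 a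
  let φ : Y →ₗ[F] F := (Q a)⁻¹ • ((polarBilin Q a) ∘ₗ s)
  have hφ : ∀ z, φ z = (Q a)⁻¹ * polar Q a (s z) := fun z => rfl
  let j₀ : Y →ₗ[F] V := s + φ.smulRight y₀
  have hj₀ : ∀ z, j₀ z = s z + φ z • y₀ := fun z => rfl
  have hsec : ∀ z : Y, v₁ (j₀ z) + j₀ z = z := by
    intro z
    rw [hj₀, map_add, map_smul]
    have e : v₁ (s z) + φ z • v₁ y₀ + (s z + φ z • y₀) = (v₁ (s z) + s z) + φ z • (v₁ y₀ + y₀) := by module
    rw [e, hs, hNy₀, smul_zero, add_zero]
  have hbj : ∀ z : Y, polar Q (j₀ z) a = 0 := by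
    intro z
    rw [hj₀, polar_add_left, polar_smul_left, hφ, polar_comm Q y₀ a, hay₀, polar_comm Q (s z) a, smul_eq_mul]
    have e : polar Q a (s z) + (Q a)⁻¹ * polar Q a (s z) * Q a = polar Q a (s z) + polar Q a (s z) * ((Q a)⁻¹ * Q a) := by
      ring
    rw [e, inv_mul_cancel₀ ha, mul_one]
    exact add_self h2 _
  have hv₁a' : v₁ a = a := by rw [hv₁a, hva, polar_self0 h2, mul_zero, zero_smul, add_zero]
  obtain ⟨j, ζ, h, hj⟩ := exists_XD h2 hG.nondeg hld hO₁ vv₁ mem j₀ hsec hv₁a' hbj (Or.inr ha)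
  have hja : ∀ z, polar Q a (j z) = 0 := by
    intro z
    obtain ⟨y, t, e⟩ := hj z
    have h1 : polar Q (y : V) a = 0 := by
      have h3 : (y : V) = (h.N (j y) : V) := by rw [h.N_j]
      rw [h3, h.polar_N, h.N_apply, hv₁a', vadd_self h2, polar_zero_right]
    rw [e, polar_add_right, polar_add_right, polar_smul_right, polar_self0 h2, polar_comm Q a (j₀ z), hbj,
      polar_comm Q a (y : V), h1]
    simp
  have hPa : h.P a = 0 := by
    rw [h.P_eq_zero]
    refine ⟨Subtype.ext ?_, ?_⟩
    · rw [h.N_apply, hv₁a', vadd_self h2]; rfl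
    · apply h.inj0
      intro z
      rw [h.zeta]
      exact hja z
  have hodd : Odd (finrank F Y) := by
    rw [← Nat.not_even_iff_odd, hY, ← bW_eq]
    intro hev
    have h1 : v₁ ∈ Dk hG.nondeg := ⟨hO₁, hev⟩
    apply refl_notMem_Dk hG.nondeg ha
    have h3 : refl Q a ha = v⁻¹ * v₁ := by rw [hv₁]; group
    rw [h3]
    exact (Dk hG.nondeg).mul_mem ((Dk hG.nondeg).inv_mem (E_le_Dk hG hE)) h1
  refine ⟨a, ha, v₁, Y, j, ζ, h, h.star_of_odd hodd, ?_, hPa, ?_⟩
  · intro h0
    rw [h0, finrank_bot] at hodd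
    exact absurd hodd (by decide)
  · rw [hv₁, mul_assoc, refl_mul_self, mul_one]

/-! ### reflections -/

/-- **reflections** -/
theorem exists_XD_r [FiniteDimensional F V] [Finite F] (h2 : (2 : F) = 0) (hG : Good Q) {l d : F} (hld : l * d = 1)
    {a : V} (ha : Q a ≠ 0) :
    ∃ (j : ↥(Submodule.span F {a}) →ₗ[F] V) (ζ : V →ₗ[F] ↥(Submodule.span F {a}))
      (h : XD Q l d (refl Q a ha) (Submodule.span F {a}) j ζ), XD.Star Q (Submodule.span F {a}) j ∧
      ∃ e : V, ∀ w, ∃ s t : F, h.P w = s • a + t • e := by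
  have ha0 : a ≠ 0 := by
    rintro rfl
    exact ha (QuadraticMap.map_zero Q)
  set Y := Submodule.span F {a} with hY
  have haY : a ∈ Y := Submodule.mem_span_singleton_self a
  have mem : ∀ w, refl Q a ha w + w ∈ Y := by
    intro w
    have : refl Q a ha w + w = ((Q a)⁻¹ * polar Q a w) • a := by
      rw [refl_apply, vsub h2, add_right_comm, vadd_self h2, zero_add]
    rw [this]
    exact Submodule.smul_mem _ _ haY
  obtain ⟨e₀, he₀⟩ := hG.nondeg.exists_polar_eq ha0 (Q a)
  -- the section `c a ↦ c e₀`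
  let c : Y ≃ₗ[F] F := (LinearEquiv.toSpanNonzeroSingleton F V a ha0).symm
  have hc : ∀ z : Y, (z : V) = c z • a := by
    intro z
    have h1 : LinearEquiv.toSpanNonzeroSingleton F V a ha0 (c z) = z := LinearEquiv.apply_symm_apply _ _
    have h3 := congrArg Subtype.val h1
    rw [← h3]
    rfl
  let j₀ : Y →ₗ[F] V := (c : Y →ₗ[F] F).smulRight e₀
  have hj₀ : ∀ z, j₀ z = c z • e₀ := fun z => rfl
  have hsec : ∀ z : Y, refl Q a ha (j₀ z) + j₀ z = z := by
    intro z
    rw [hj₀, map_smul, refl_apply, he₀, inv_mul_cancel₀ ha, one_smul, vsub h2, ← smul_add, add_right_comm,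
      vadd_self h2, zero_add, ← hc]
  -- a nonsingular vector orthogonal to `a`, `e₀`
  obtain ⟨b, hb, hab, heb⟩ : ∃ b, Q b ≠ 0 ∧ polar Q a b = 0 ∧ polar Q e₀ b = 0 := by
    have hd := hG.dim
    obtain ⟨z, hz0, hz⟩ := exists_perp_ne (Q := Q) ![a, e₀] (by omega)
    have hz1 : polar Q a z = 0 := hz 0
    have hz2 : polar Q e₀ z = 0 := hz 1
    obtain ⟨y, hy⟩ := hG.nondeg.exists_polar_eq hz0 1
    set y' := y + ((Q a)⁻¹ * polar Q e₀ y) • a + ((Q a)⁻¹ * polar Q a y) • e₀ with hy'
    have hea : polar Q e₀ a = Q a := by rw [polar_comm]; exact he₀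
    have h1 : polar Q a y' = 0 := by
      rw [hy', polar_add_right, polar_add_right, polar_smul_right, polar_smul_right, polar_self0 h2, he₀, smul_zero,
        add_zero, smul_eq_mul, mul_comm (Q a)⁻¹, mul_assoc, inv_mul_cancel₀ ha, mul_one]
      exact add_self h2 _
    have h3 : polar Q e₀ y' = 0 := by
      rw [hy', polar_add_right, polar_add_right, polar_smul_right, polar_smul_right, polar_self0 h2, hea, smul_zero,
        add_zero, smul_eq_mul, mul_comm (Q a)⁻¹, mul_assoc, inv_mul_cancel₀ ha, mul_one]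
      exact add_self h2 _
    have h4 : polar Q z y' = 1 := by
      rw [hy', polar_add_right, polar_add_right, polar_smul_right, polar_smul_right, polar_comm Q z a, hz1,
        polar_comm Q z e₀, hz2, hy]
      simp
    rcases exists_nonsing h4 with h5 | h5 | h5
    · exact ⟨z, h5, hz1, hz2⟩
    · exact ⟨y', h5, h1, h3⟩
    · exact ⟨z + y', h5, by rw [polar_add_right, hz1, h1, add_zero], by rw [polar_add_right, hz2, h3, add_zero]⟩
  have hvb : refl Q a ha b = b := by rw [refl_apply, hab, mul_zero, zero_smul, sub_zero]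
  obtain ⟨j, ζ, h, hj⟩ := exists_XD h2 hG.nondeg hld (refl_mem_O ha)
    (fun w => LinearEquiv.congr_fun (refl_mul_self ha) w) mem j₀ hsec hvb
    (fun z => by rw [hj₀, polar_smul_left, heb, smul_zero]) (Or.inr hb)
  refine ⟨j, ζ, h, ?_, ?_⟩
  · intro u hu hQu
    apply Subtype.ext
    rw [hc u, QuadraticMap.map_smul, smul_eq_mul] at hQu
    rcases mul_eq_zero.1 hQu with h1 | h1
    · rw [hc u, mul_self_eq_zero.1 h1, zero_smul]; rfl
    · exact absurd h1 ha
  · refine ⟨j ⟨a, haY⟩, fun w => ⟨c (ζ w), c (h.N w), ?_⟩⟩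
    rw [h.P_apply, ← hc (ζ w), ← map_smul]
    congr 2
    exact Subtype.ext (hc (h.N w))

end Cfsg.Agent.H739.SK.Om
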