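import Cfsg.Agent.H739.SK.OmAlg

/-!
# S3010, orthogonal groups in characteristic two: 2-groups normalised by the centraliser of `⟨v, x⟩` (helper739)

`A` a 2-group of isometries commuting with `v` and `x`, normalised by the elements of `E Q` commuting with `v` and `x`:
* `fix_Y` : `A` fixes `Y` (hence `P V`) pointwise;
* `refl_a` : every element of `A` is `1` or a reflection (`v` acts trivially on `ker P`);
* `refl_c` : the same when `A` and the normalising elements have to fix a nonsingular vector `a₀` of `ker P`.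
-/

set_option autoImplicit false
set_option linter.unusedSectionVars false

namespace Cfsg.Agent.H739.SK.Om

open QuadraticMap Cfsg.Agent.LieClassical.OrthCore Cfsg.Agent.LieClassical.OrthTrans

variable {F V : Type*} [Field F] [AddCommGroup V] [Module F V] {Q : QuadraticForm F V}

theorem isPGroup_fix {A : Subgroup (V ≃ₗ[F] V)} [Finite A] (h2 : (2 : F) = 0) (hA : IsPGroup 2 A)
    (W : Submodule F V) (hW : ∀ a ∈ A, ∀ w ∈ W, a w ∈ W) (hW0 : W ≠ ⊥) :
    ∃ w ∈ W, w ≠ 0 ∧ ∀ a ∈ A, a w = w := by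
  have : CharP F 2 := CharTwo.of_one_ne_zero_of_two_eq_zero one_ne_zero h2
  let ρ : Representation F A V :=
    { toFun := fun a => (a : V ≃ₗ[F] V).toLinearMap
      map_one' := rfl
      map_mul' := fun _ _ => rfl }
  obtain ⟨w, hw, hw0, hf⟩ := Lib.PGroupFixedVector.exists_mem_ne_zero_fixed_rep hA ρ W
    (fun g w hw => hW g.1 g.2 w hw) hW0
  exact ⟨w, hw, hw0, fun a ha => hf ⟨a, ha⟩⟩

/-- fixed vector modulo an invariant subspace -/
theorem isPGroup_fix_mod {A : Subgroup (V ≃ₗ[F] V)} [Finite A] (h2 : (2 : F) = 0) (hA : IsPGroup 2 A)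
    (W T : Submodule F V) (hW : ∀ a ∈ A, ∀ w ∈ W, a w ∈ W) (hT : ∀ a ∈ A, ∀ w ∈ T, a w ∈ T) (hWT : ¬ W ≤ T) :
    ∃ w ∈ W, w ∉ T ∧ ∀ a ∈ A, a w - w ∈ T := by
  have : CharP F 2 := CharTwo.of_one_ne_zero_of_two_eq_zero one_ne_zero h2
  let ρ : Representation F A (V ⧸ T) :=
    { toFun := fun a => T.mapQ T (a : V ≃ₗ[F] V).toLinearMap (fun w hw => hT a.1 a.2 w hw)
      map_one' := by
        ext w
        rfl
      map_mul' := fun _ _ => by
        ext w
        rfl }
  obtain ⟨w, hw, hw0, hf⟩ := Lib.PGroupFixedVector.exists_mem_ne_zero_fixed_rep hA ρ (W.map T.mkQ)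
    (by
      rintro g _ ⟨w, hw, rfl⟩
      exact ⟨g.1 w, hW g.1 g.2 w hw, rfl⟩)
    (by
      intro h0
      apply hWT
      rw [← LinearMap.le_ker_iff_map, Submodule.ker_mkQ] at h0
      exact h0)
  obtain ⟨u, hu, rfl⟩ := hw
  refine ⟨u, hu, ?_, fun a ha => ?_⟩
  · intro hu'
    exact hw0 ((Submodule.Quotient.mk_eq_zero T).2 hu')
  · have h1 := hf ⟨a, ha⟩
    have h3 : T.mkQ (a u) = T.mkQ u := h1
    exact (Submodule.Quotient.eq T).1 h3

/-- every functional is represented by the polar form -/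
theorem exists_rep [FiniteDimensional F V] (hQ : Nondeg Q) (φ : Module.Dual F V) :
    ∃ y, ∀ w, polar Q y w = φ w := by
  have hinj : Function.Injective (polarBilin Q : V →ₗ[F] V →ₗ[F] F) := by
    rw [← LinearMap.ker_eq_bot, LinearMap.ker_eq_bot']
    intro y hy
    apply hQ
    intro w
    exact LinearMap.congr_fun hy w
  have hsurj : Function.Surjective (polarBilin Q : V →ₗ[F] Module.Dual F V) :=
    (LinearMap.injective_iff_surjective_of_finrank_eq_finrank (Subspace.dual_finrank_eq).symm).1 hinj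
  obtain ⟨y, hy⟩ := hsurj φ
  exact ⟨y, fun w => LinearMap.congr_fun hy w⟩

/-- separation of a vector from a subspace -/
theorem exists_sep_sub [FiniteDimensional F V] (hQ : Nondeg Q) (D : Submodule F V) {h : V} (hh : h ∉ D) :
    ∃ y, (∀ w ∈ D, polar Q y w = 0) ∧ polar Q y h ≠ 0 := by
  obtain ⟨φ, hφ, hD⟩ := Submodule.exists_le_ker_of_notMem hh
  obtain ⟨y, hy⟩ := exists_rep hQ φ
  refine ⟨y, fun w hw => ?_, ?_⟩
  · rw [hy]
    exact hD hw
  · rw [hy]
    exact hφ

/-- An isometry moving every vector by a multiple of `b` is `1` or the reflection in `b`. -/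
theorem refl_of (h2 : (2 : F) = 0) (hQ : Nondeg Q) {g : V ≃ₗ[F] V} (hg : g ∈ O Q) {b : V}
    (h : ∀ w, g w - w ∈ Submodule.span F {b}) : g = 1 ∨ ∃ hb : Q b ≠ 0, g = refl Q b hb := by
  by_cases hb0 : b = 0
  · left
    ext w
    have h1 := h w
    rw [hb0, Submodule.span_zero_singleton, Submodule.mem_bot, sub_eq_zero] at h1
    exact h1
  choose c hc using fun w => Submodule.mem_span_singleton.1 (h w)
  have hgw : ∀ w, g w = w + c w • b := fun w => by rw [hc]; abel
  have hcl : ∀ w w', c (w + w') = c w + c w' := by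
    intro w w'
    have h1 : (c (w + w') - (c w + c w')) • b = 0 := by
      have h3 := hgw (w + w')
      rw [map_add, hgw, hgw] at h3
      rw [sub_smul, add_smul]
      have : c (w + w') • b = (w + c w • b + (w' + c w' • b)) - (w + w') := by rw [h3]; abel
      rw [this]; abel
    rcases smul_eq_zero.1 h1 with h3 | h3
    · exact sub_eq_zero.1 h3
    · exact absurd h3 hb0
  have hkey : ∀ w, c w = 0 ∨ c w * Q b = polar Q b w := by
    intro w
    by_cases hw : c w = 0
    · exact Or.inl hw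
    right
    have h1 := hg w
    rw [hgw, Q_add, QuadraticMap.map_smul, polar_smul_right, polar_comm Q w b] at h1
    simp only [smul_eq_mul] at h1
    have h3 : c w * (c w * Q b + polar Q b w) = 0 := by linear_combination h1
    rcases mul_eq_zero.1 h3 with h4 | h4
    · exact absurd h4 hw
    · linear_combination h4 - (polar Q b w) * h2
  by_cases hall : ∀ w, c w = 0
  · left
    ext w
    rw [hgw, hall]
    simp
  push Not at hall
  obtain ⟨w₀, hw₀⟩ := hall
  have hall2 : ∀ w, c w * Q b = polar Q b w := by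
    intro w
    rcases hkey w with h1 | h1
    · -- `c w = 0`: use `w + w₀`
      have h3 : c (w + w₀) ≠ 0 := by rw [hcl, h1, zero_add]; exact hw₀
      have h4 := (hkey (w + w₀)).resolve_left h3
      have h5 := (hkey w₀).resolve_left hw₀
      rw [hcl, polar_add_right, add_mul, h5] at h4
      exact add_right_cancel h4
    · exact h1
  have hQb : Q b ≠ 0 := by
    intro h0
    exact hb0 (hQ b fun w => by rw [← hall2, h0, mul_zero])
  right
  refine ⟨hQb, ?_⟩
  ext w
  rw [hgw, refl_apply, sub_eq_add_neg, ← neg_smul]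
  congr 2
  have h1 := hall2 w
  rw [neg_eq h2, ← h1]
  field_simp

theorem smul_refl {b : V} (hb : Q b ≠ 0) {c : F} (hcb : Q (c • b) ≠ 0) : refl Q (c • b) hcb = refl Q b hb := by
  have hc : c ≠ 0 := by
    rintro rfl
    apply hcb
    rw [zero_smul, QuadraticMap.map_zero]
  ext w
  rw [refl_apply, refl_apply, QuadraticMap.map_smul, polar_smul_left, smul_smul]
  congr 2
  simp only [smul_eq_mul]
  field_simp

/-- a multiple of `b` has a given nonzero norm -/
theorem exists_scale [Finite F] (h2 : (2 : F) = 0) {b : V} (hb : Q b ≠ 0) {t : F} (ht : t ≠ 0) :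
    ∃ c : F, c ≠ 0 ∧ Q (c • b) = t := by
  obtain ⟨c, hc⟩ := sq_surjective h2 (t * (Q b)⁻¹)
  refine ⟨c, ?_, ?_⟩
  · rintro rfl
    rw [mul_zero] at hc
    have := mul_ne_zero ht (inv_ne_zero hb)
    exact this hc.symm
  · rw [QuadraticMap.map_smul, hc, smul_eq_mul, mul_assoc, inv_mul_cancel₀ hb, mul_one]

namespace XD

variable {l d : F} {v : V ≃ₗ[F] V} {Y : Submodule F V} {j : Y →ₗ[F] V} {ζ : V →ₗ[F] Y}

/-! ### elements commuting with `v` and `x` -/

/-- `g` commutes with `v` and `x` -/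
def Cm (h : XD Q l d v Y j ζ) (g : V ≃ₗ[F] V) : Prop := g * v = v * g ∧ g * h.x = h.x * g

theorem v'_eq (h : XD Q l d v Y j ζ) : h.v' = v * h.x := by
  ext w
  show h.v' w = v (v (h.v' w))
  rw [h.vv]

theorem Cm.v' {h : XD Q l d v Y j ζ} {g : V ≃ₗ[F] V} (hg : h.Cm g) : g * h.v' = h.v' * g := by
  rw [h.v'_eq, ← mul_assoc, hg.1, mul_assoc, hg.2, mul_assoc]

theorem cm_of (h : XD Q l d v Y j ζ) {g : V ≃ₗ[F] V} (h1 : g * v = v * g) (h3 : g * h.v' = h.v' * g) : h.Cm g :=
  ⟨h1, by rw [x, ← mul_assoc, h1, mul_assoc, h3, mul_assoc]⟩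

theorem Cm.apply_v {h : XD Q l d v Y j ζ} {g : V ≃ₗ[F] V} (hg : h.Cm g) (w : V) : g (v w) = v (g w) :=
  LinearEquiv.congr_fun hg.1 w

theorem Cm.apply_v' {h : XD Q l d v Y j ζ} {g : V ≃ₗ[F] V} (hg : h.Cm g) (w : V) : g (h.v' w) = h.v' (g w) :=
  LinearEquiv.congr_fun hg.v' w

theorem Cm.apply_N {h : XD Q l d v Y j ζ} {g : V ≃ₗ[F] V} (hg : h.Cm g) (w : V) :
    g (h.N w : V) = (h.N (g w) : V) := by
  rw [h.N_apply, h.N_apply, map_add, hg.apply_v]

theorem Cm.mem_Y {h : XD Q l d v Y j ζ} {g : V ≃ₗ[F] V} (hg : h.Cm g) {w : V} (hw : w ∈ Y) : g w ∈ Y := by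
  have h1 : w = (h.N (j ⟨w, hw⟩) : V) := by rw [h.N_j]
  rw [h1, hg.apply_N]
  exact (h.N _).2

theorem Cm.apply_jz {h : XD Q l d v Y j ζ} {g : V ≃ₗ[F] V} (hg : h.Cm g) (w : V) :
    g (j (ζ w)) = j (ζ (g w)) := by
  have h1 := hg.apply_v' w
  rw [h.v'_apply, h.v'_apply, map_add, map_smul] at h1
  have h3 := add_left_cancel h1
  have h4 : l • (g (j (ζ w)) - j (ζ (g w))) = 0 := by rw [smul_sub, h3, sub_self]
  rcases smul_eq_zero.1 h4 with h5 | h5
  · exact absurd h5 h.l_ne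
  · exact sub_eq_zero.1 h5

theorem Cm.apply_zeta {h : XD Q l d v Y j ζ} {g : V ≃ₗ[F] V} (hg : h.Cm g) (w : V) :
    g (ζ w : V) = (ζ (g w) : V) := by
  have h1 : (ζ w : V) = (h.N (j (ζ w)) : V) := by rw [h.N_j]
  rw [h1, hg.apply_N, hg.apply_jz, h.N_j]

theorem Cm.apply_j {h : XD Q l d v Y j ζ} {g : V ≃ₗ[F] V} (hg : h.Cm g) (z : Y) :
    g (j z) = j ⟨g z, hg.mem_Y z.2⟩ := by
  have h1 := hg.apply_jz (z : V)
  rw [h.zeta_Y] at h1
  rw [h1]
  congr 1
  exact h.zeta_Y ⟨g z, hg.mem_Y z.2⟩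

theorem Cm.apply_P {h : XD Q l d v Y j ζ} {g : V ≃ₗ[F] V} (hg : h.Cm g) (w : V) : g (h.P w) = h.P (g w) := by
  rw [h.P_apply, h.P_apply, map_add, hg.apply_zeta, hg.apply_j]
  congr 2
  exact Subtype.ext (hg.apply_N w)

theorem Cm.P_zero {h : XD Q l d v Y j ζ} {g : V ≃ₗ[F] V} (hg : h.Cm g) {w : V} (hw : h.P w = 0) :
    h.P (g w) = 0 := by rw [← hg.apply_P, hw, map_zero]

/-- a reflection in a vector fixed by `v`, `v'` commutes with them -/
theorem cm_refl (h : XD Q l d v Y j ζ) {b : V} (hb : Q b ≠ 0) (hP : h.P b = 0) : h.Cm (refl Q b hb) := by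
  have key : ∀ g : V ≃ₗ[F] V, g ∈ O Q → g b = b → refl Q b hb * g = g * refl Q b hb := by
    intro g hg hgb
    ext w
    show refl Q b hb (g w) = g (refl Q b hb w)
    have h1 : polar Q b (g w) = polar Q b w := by
      have := polar_map hg b w
      rwa [hgb] at this
    rw [refl_apply, refl_apply, map_sub, map_smul, hgb, h1]
  exact h.cm_of (key _ h.hO (h.v_of_P hP)) (key _ h.v'_mem_O (h.v'_of_P hP))

/-- the long root elements -/
theorem tau_aux (h : XD Q l d v Y j ζ) {z : Y} (hz : Q (z : V) = 0) : polar Q (z : V) (j z) = 0 := by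
  rw [polar_comm, h.polar_jz, hz]

/-- `w ↦ w + B(z,w) j z + B(j z, w) z` -/
def tau (h : XD Q l d v Y j ζ) {z : Y} (hz : Q (z : V) = 0) : V ≃ₗ[F] V := siegel Q (z : V) (j z) hz (h.tau_aux hz)

theorem tau_apply (h : XD Q l d v Y j ζ) {z : Y} (hz : Q (z : V) = 0) (w : V) :
    h.tau hz w = w + polar Q (z : V) w • j z + polar Q (j z) w • (z : V) := by
  rw [tau, siegel_apply, h.sq, hz, mul_zero, zero_mul, zero_smul, sub_zero, vsub h.two]

theorem tau_mem_E (h : XD Q l d v Y j ζ) {z : Y} (hz : Q (z : V) = 0) : h.tau hz ∈ E Q := siegel_mem_E _ _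

theorem v'_Y (h : XD Q l d v Y j ζ) (z : Y) : h.v' z = z + l • j z := by rw [h.v'_apply, h.zeta_Y]

theorem v'_j (h : XD Q l d v Y j ζ) (z : Y) : h.v' (j z) = j z := by
  rw [h.v'_apply, h.zeta_j, map_zero, smul_zero, add_zero]

theorem v_j (h : XD Q l d v Y j ζ) (z : Y) : v (j z) = j z + z := by rw [h.v_eq, h.N_j]

theorem cm_tau (h : XD Q l d v Y j ζ) {z : Y} (hz : Q (z : V) = 0) : h.Cm (h.tau hz) := by
  refine h.cm_of ?_ ?_
  · ext w
    show h.tau hz (v w) = v (h.tau hz w)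
    have h1 : polar Q (z : V) (v w) = polar Q (z : V) w := by
      have := polar_map h.hO (z : V) w
      rwa [h.v_Y] at this
    have h3 : polar Q (j z) (v w) = polar Q (j z) w + polar Q (z : V) w := by
      have h4 := polar_map h.hO (j z + (z : V)) w
      rw [map_add, h.v_j, h.v_Y, add_assoc, vadd_self h.two, add_zero, polar_add_left] at h4
      exact h4
    rw [h.tau_apply, h.tau_apply, h1, h3, map_add, map_add, map_smul, map_smul, h.v_j, h.v_Y]
    module
  · ext w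
    show h.tau hz (h.v' w) = h.v' (h.tau hz w)
    have h1 : polar Q (j z) (h.v' w) = polar Q (j z) w := by
      have := polar_map h.v'_mem_O (j z) w
      rwa [h.v'_j] at this
    have h3 : polar Q (z : V) (h.v' w) = polar Q (z : V) w + l * polar Q (j z) w := by
      have h4 := polar_map h.v'_mem_O ((z : V) + l • j z) w
      rw [map_add, map_smul, h.v'_j, h.v'_Y, add_assoc, vadd_self h.two, add_zero, polar_add_left,
        polar_smul_left, smul_eq_mul] at h4
      exact h4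
    rw [h.tau_apply, h.tau_apply, h1, h3, map_add, map_add, map_smul, map_smul, h.v'_j, h.v'_Y]
    module

theorem tau_Y (h : XD Q l d v Y j ζ) {z : Y} (hz : Q (z : V) = 0) (y : Y) :
    h.tau hz y = y + polar Q (j z) y • (z : V) := by
  rw [h.tau_apply, h.polar_Y, zero_smul, add_zero]

/-! ### `A` fixes `Y` -/

/-- condition (★) on `Y` -/
def Star (Q : QuadraticForm F V) (Y : Submodule F V) (j : Y →ₗ[F] V) : Prop :=
  ∀ u : Y, (∀ z : Y, Q (z : V) = 0 → polar Q (j z) u = 0) → Q (u : V) = 0 → u = 0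

theorem fix_Y [FiniteDimensional F V] (h : XD Q l d v Y j ζ) (A : Subgroup (V ≃ₗ[F] V)) [Finite A]
    (hA : IsPGroup 2 A) (hAO : A ≤ O Q) (hAc : ∀ a ∈ A, h.Cm a)
    (hn : ∀ (z : Y) (hz : Q (z : V) = 0), ∀ a ∈ A, (h.tau hz)⁻¹ * a * h.tau hz ∈ A) (hs : Star Q Y j) :
    ∀ a ∈ A, ∀ z : Y, a (z : V) = z := by
  -- the fixed space and its orthogonal
  let D : Submodule F V :=
    { carrier := {u | u ∈ Y ∧ ∀ a ∈ A, a u = u}
      add_mem' := fun {u w} hu hw => ⟨Y.add_mem hu.1 hw.1, fun a ha => by rw [map_add, hu.2 a ha, hw.2 a ha]⟩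
      zero_mem' := ⟨Y.zero_mem, fun a _ => map_zero _⟩
      smul_mem' := fun c u hu => ⟨Y.smul_mem c hu.1, fun a ha => by rw [map_smul, hu.2 a ha]⟩ }
  let Pp : Submodule F V :=
    { carrier := {u | u ∈ Y ∧ ∀ f : Y, (f : V) ∈ D → polar Q (j f) u = 0}
      add_mem' := fun {u w} hu hw => ⟨Y.add_mem hu.1 hw.1, fun f hf => by
        rw [polar_add_right, hu.2 f hf, hw.2 f hf, add_zero]⟩
      zero_mem' := ⟨Y.zero_mem, fun f _ => polar_zero_right _ _⟩
      smul_mem' := fun c u hu => ⟨Y.smul_mem c hu.1, fun f hf => by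
        rw [polar_smul_right, hu.2 f hf, smul_zero]⟩ }
  by_contra hcon
  push Not at hcon
  obtain ⟨a₀, ha₀, z₀, hz₀⟩ := hcon
  have hz₀D : (z₀ : V) ∉ D := fun hD => hz₀ (hD.2 a₀ ha₀)
  -- `Pp ≠ 0`
  have hPp : Pp ≠ ⊥ := by
    obtain ⟨y, hy, hy0⟩ := exists_sep_sub h.nd D hz₀D
    rw [Submodule.ne_bot_iff]
    have hrep : ∀ z : Y, polar Q (j z) (h.N y : V) = polar Q y z := by
      intro z
      rw [← h.polar_N, h.N_j, polar_comm]
    refine ⟨(h.N y : V), ⟨(h.N y).2, fun f hf => ?_⟩, fun h0 => ?_⟩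
    · rw [hrep, hy f hf]
    · apply hy0
      rw [← hrep, h0]
      exact polar_zero_right _ _
  have hinv : ∀ a ∈ A, ∀ w ∈ Pp, a w ∈ Pp := by
    intro a ha w hw
    refine ⟨(hAc a ha).mem_Y hw.1, fun f hf => ?_⟩
    have h1 : a (j f) = j f := by
      rw [(hAc a ha).apply_j]
      congr 1
      exact Subtype.ext (hf.2 a ha)
    have h3 := polar_map (hAO ha) (j f) w
    rw [h1] at h3
    rw [h3]
    exact hw.2 f hf
  obtain ⟨u, hu, hu0, hfix⟩ := isPGroup_fix h.two hA Pp hinv hPp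
  have huD : u ∈ D := ⟨hu.1, hfix⟩
  have hQu : Q u = 0 := by
    have h1 := hu.2 ⟨u, hu.1⟩ huD
    rw [h.polar_jz] at h1
    exact h1
  have h1 := hs ⟨u, hu.1⟩ ?_ hQu
  · exact hu0 (congrArg Subtype.val h1)
  intro z hz
  by_contra hne
  -- `τ u` is fixed, so `z` is fixed
  have hzD : (z : V) ∈ D := by
    have h3 : h.tau hz u = u + polar Q (j z) u • (z : V) := h.tau_Y hz ⟨u, hu.1⟩
    have h4 : ∀ a ∈ A, a (h.tau hz u) = h.tau hz u := by
      intro a ha
      have h5 := hfix _ (hn z hz a ha)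
      have h6 : (h.tau hz)⁻¹ (a (h.tau hz u)) = u := h5
      have h7 := congrArg (h.tau hz) h6
      have h8 : h.tau hz ((h.tau hz)⁻¹ (a (h.tau hz u))) = a (h.tau hz u) := (h.tau hz).apply_symm_apply _
      rw [h8] at h7
      exact h7
    refine ⟨z.2, fun a ha => ?_⟩
    have h5 := h4 a ha
    rw [h3, map_add, map_smul, hfix a ha] at h5
    have h6 := add_left_cancel h5
    have h7 : polar Q (j z) u • (a (z : V) - z) = 0 := by rw [smul_sub, h6, sub_self]
    rcases smul_eq_zero.1 h7 with h8 | h8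
    · exact absurd h8 hne
    · exact sub_eq_zero.1 h8
  exact hne (hu.2 z hzD)

/-- then `A` fixes `P V` -/
theorem fix_P (h : XD Q l d v Y j ζ) {A : Subgroup (V ≃ₗ[F] V)} (hAc : ∀ a ∈ A, h.Cm a)
    (hY : ∀ a ∈ A, ∀ z : Y, a (z : V) = z) : ∀ a ∈ A, ∀ w, a (h.P w) = h.P w := by
  intro a ha w
  have h1 : ∀ z : Y, a (j z) = j z := by
    intro z
    rw [(hAc a ha).apply_j]
    congr 1
    exact Subtype.ext (hY a ha z)
  rw [h.P_apply, map_add, hY a ha, h1]

/-! ### the complement `ker P` -/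

/-- `ker P` is orthogonal to `P V` -/
theorem polar_P (h : XD Q l d v Y j ζ) {u : V} (hu : h.P u = 0) (w : V) : polar Q u (h.P w) = 0 := by
  obtain ⟨h1, h3⟩ := h.P_eq_zero.1 hu
  rw [h.P_apply, polar_add_right, ← h.zeta, h3]
  have h4 : (ζ w : V) = (h.N (j (ζ w)) : V) := by rw [h.N_j]
  rw [h4, ← h.polar_N, h1, map_zero]
  simp

theorem polar_ker (h : XD Q l d v Y j ζ) {u : V} (hu : h.P u = 0) (w : V) :
    polar Q u (w + h.P w) = polar Q u w := by rw [polar_add_right, h.polar_P hu, add_zero]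

/-- one conjugation step: if `r u = u + c b`, `c ≠ 0`, `r` normalises `A` and `A` fixes `u`, then `A` fixes `b` -/
theorem fix_step {A : Subgroup (V ≃ₗ[F] V)} {r : V ≃ₗ[F] V} (hr : ∀ a ∈ A, r⁻¹ * a * r ∈ A) {u b : V} {c : F}
    (hc : c ≠ 0) (hru : r u = u + c • b) (hu : ∀ a ∈ A, a u = u) : ∀ a ∈ A, a b = b := by
  intro a ha
  have h5 := hu _ (hr a ha)
  have h6 : r⁻¹ (a (r u)) = u := h5
  have h7 := congrArg r h6
  have h8 : r (r⁻¹ (a (r u))) = a (r u) := r.apply_symm_apply _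
  rw [h8, hru, map_add, map_smul, hu a ha] at h7
  have h9 := add_left_cancel h7
  have h10 : c • (a b - b) = 0 := by rw [smul_sub, h9, sub_self]
  rcases smul_eq_zero.1 h10 with h11 | h11
  · exact absurd h11 hc
  · exact sub_eq_zero.1 h11

end XD

end Cfsg.Agent.H739.SK.Om
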