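import Cfsg.Agent.H739.SK.OmFix

/-!
# S3010, orthogonal groups in characteristic two: `A` on the complement `ker P` (helper739)

* `refl_a` : no vector to preserve; every `a ∈ A` is `1` or a reflection;
* `refl_c` : `A` fixes the nonsingular vector `a₀ ∈ ker P`; every `a ∈ A` is `1` or the reflection in `a₀`.
-/

set_option autoImplicit false
set_option linter.unusedSectionVars false

namespace Cfsg.Agent.H739.SK.Om

open QuadraticMap Cfsg.Agent.LieClassical.OrthCore Cfsg.Agent.LieClassical.OrthTrans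

variable {F V : Type*} [Field F] [AddCommGroup V] [Module F V] {Q : QuadraticForm F V}

namespace XD

variable {l d : F} {v : V ≃ₗ[F] V} {Y : Submodule F V} {j : Y →ₗ[F] V} {ζ : V →ₗ[F] Y}

/-- the vectors of `ker P` fixed by `A` -/
def Fx (h : XD Q l d v Y j ζ) (A : Subgroup (V ≃ₗ[F] V)) : Submodule F V where
  carrier := {u | h.P u = 0 ∧ ∀ a ∈ A, a u = u}
  add_mem' := fun {u w} hu hw => ⟨by rw [map_add, hu.1, hw.1, add_zero],
    fun a ha => by rw [map_add, hu.2 a ha, hw.2 a ha]⟩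
  zero_mem' := ⟨map_zero _, fun a _ => map_zero _⟩
  smul_mem' := fun c u hu => ⟨by rw [map_smul, hu.1, smul_zero], fun a ha => by rw [map_smul, hu.2 a ha]⟩

theorem mem_Fx (h : XD Q l d v Y j ζ) {A : Subgroup (V ≃ₗ[F] V)} {u : V} :
    u ∈ h.Fx A ↔ h.P u = 0 ∧ ∀ a ∈ A, a u = u := Iff.rfl

/-- the orthogonal of `Fx` in `ker P` -/
def Pr (h : XD Q l d v Y j ζ) (A : Subgroup (V ≃ₗ[F] V)) : Submodule F V where
  carrier := {u | h.P u = 0 ∧ ∀ f ∈ h.Fx A, polar Q f u = 0}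
  add_mem' := fun {u w} hu hw => ⟨by rw [map_add, hu.1, hw.1, add_zero], fun f hf => by
    rw [polar_add_right, hu.2 f hf, hw.2 f hf, add_zero]⟩
  zero_mem' := ⟨map_zero _, fun f _ => polar_zero_right _ _⟩
  smul_mem' := fun c u hu => ⟨by rw [map_smul, hu.1, smul_zero], fun f hf => by
    rw [polar_smul_right, hu.2 f hf, smul_zero]⟩

theorem mem_Pr (h : XD Q l d v Y j ζ) {A : Subgroup (V ≃ₗ[F] V)} {u : V} :
    u ∈ h.Pr A ↔ h.P u = 0 ∧ ∀ f ∈ h.Fx A, polar Q f u = 0 := Iff.rfl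

theorem Pr_inv (h : XD Q l d v Y j ζ) {A : Subgroup (V ≃ₗ[F] V)} (hAO : A ≤ O Q) (hAc : ∀ a ∈ A, h.Cm a) :
    ∀ a ∈ A, ∀ w ∈ h.Pr A, a w ∈ h.Pr A := by
  intro a ha w hw
  refine ⟨(hAc a ha).P_zero hw.1, fun f hf => ?_⟩
  have h3 := polar_map (hAO ha) f w
  rw [hf.2 a ha] at h3
  rw [h3]
  exact hw.2 f hf

/-- `w + P w ∈ ker P` with the same products against `ker P` -/
theorem proj_ker (h : XD Q l d v Y j ζ) (w : V) : h.P (w + h.P w) = 0 := h.P_add_self w

/-- a vector of `ker P` not fixed by `A` is separated from the fixed ones inside `Pr` -/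
theorem exists_Pr [FiniteDimensional F V] (h : XD Q l d v Y j ζ) {A : Subgroup (V ≃ₗ[F] V)} {w : V}
    (hw : h.P w = 0) (hwF : w ∉ h.Fx A) : ∃ u ∈ h.Pr A, polar Q u w ≠ 0 := by
  obtain ⟨y, hy, hy0⟩ := exists_sep_sub h.nd (h.Fx A) hwF
  refine ⟨y + h.P y, ⟨h.proj_ker y, fun f hf => ?_⟩, ?_⟩
  · rw [h.polar_ker hf.1, polar_comm]
    exact hy f hf
  · rw [polar_comm, h.polar_ker hw, polar_comm]
    exact hy0

/-- if `A` fixes `P V` and `ker P` then `A = 1` -/
theorem eq_one_of_ker (h : XD Q l d v Y j ζ) {A : Subgroup (V ≃ₗ[F] V)}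
    (hP : ∀ a ∈ A, ∀ w, a (h.P w) = h.P w) (hK : ∀ w, h.P w = 0 → w ∈ h.Fx A) : ∀ a ∈ A, a = 1 := by
  intro a ha
  ext w
  show a w = w
  have h1 := (hK _ (h.proj_ker w)).2 a ha
  rw [map_add, hP a ha] at h1
  exact add_right_cancel h1

/-- **Case without a preserved vector.** -/
theorem refl_a [FiniteDimensional F V] [Finite F] (h : XD Q l d v Y j ζ) (A : Subgroup (V ≃ₗ[F] V)) [Finite A]
    (hA : IsPGroup 2 A) (hAO : A ≤ O Q) (hAc : ∀ a ∈ A, h.Cm a) (hP : ∀ a ∈ A, ∀ w, a (h.P w) = h.P w)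
    (hn : ∀ (b c : V) (hb : Q b ≠ 0) (hc : Q c ≠ 0), h.P b = 0 → h.P c = 0 → Q c = Q b →
      ∀ a ∈ A, (refl Q b hb * refl Q c hc)⁻¹ * a * (refl Q b hb * refl Q c hc) ∈ A) :
    ∀ a ∈ A, a = 1 ∨ ((∃ (b : V) (hb : Q b ≠ 0), a = refl Q b hb) ∧
      ∃ u b₀ : V, ∀ w, h.P w = 0 → w = polar Q w b₀ • u + polar Q w u • b₀) := by
  by_cases hall : ∀ w, h.P w = 0 → w ∈ h.Fx A
  · intro a ha
    exact Or.inl (h.eq_one_of_ker hP hall a ha)
  push Not at hall
  obtain ⟨w₀, hw₀, hw₀F⟩ := hall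
  obtain ⟨u₀, hu₀, hu₀0⟩ := h.exists_Pr hw₀ hw₀F
  have hPr : h.Pr A ≠ ⊥ := by
    rw [Submodule.ne_bot_iff]
    refine ⟨u₀, hu₀, ?_⟩
    rintro rfl
    exact hu₀0 (polar_zero_left _ _)
  obtain ⟨u, hu, hu0, hfix⟩ := isPGroup_fix h.two hA (h.Pr A) (h.Pr_inv hAO hAc) hPr
  -- `b₀ ∈ ker P` with `B(u, b₀) = 1`
  obtain ⟨y, hy⟩ := h.nd.exists_polar_eq hu0 1
  set b₀ := y + h.P y with hb₀
  have hb₀P : h.P b₀ = 0 := h.proj_ker y
  have hub₀ : polar Q u b₀ = 1 := by rw [hb₀, h.polar_ker hu.1, hy]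
  -- the main step
  have hmain : ∀ c : V, h.P c = 0 → Q c ≠ 0 → polar Q u c = 0 → polar Q b₀ c = 0 → False := by
    intro c hcP hc huc hbc
    obtain ⟨b, hbP, hb, hub⟩ : ∃ b, h.P b = 0 ∧ Q b ≠ 0 ∧ polar Q u b = 1 := by
      by_cases hQ0 : Q b₀ = 0
      · refine ⟨b₀ + c, by rw [map_add, hb₀P, hcP, add_zero], ?_, by rw [polar_add_right, hub₀, huc, add_zero]⟩
        rw [Q_add, hQ0, hbc, zero_add, add_zero]
        exact hc
      · exact ⟨b₀, hb₀P, hQ0, hub₀⟩
    obtain ⟨t, ht0, ht⟩ := exists_scale h.two hb hc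
    have htb : Q (t • b) ≠ 0 := by rw [ht]; exact hc
    have hPtb : h.P (t • b) = 0 := by rw [map_smul, hbP, smul_zero]
    have hru : (refl Q (t • b) htb * refl Q c hc) u = u + (-((Q (t • b))⁻¹ * polar Q (t • b) u)) • (t • b) := by
      show refl Q (t • b) htb (refl Q c hc u) = _
      rw [refl_apply hc, polar_comm Q c u, huc, mul_zero, zero_smul, sub_zero, refl_apply, neg_smul,
        sub_eq_add_neg]
    have hc0 : -((Q (t • b))⁻¹ * polar Q (t • b) u) ≠ 0 := by
      rw [polar_comm, polar_smul_right, hub, smul_eq_mul, mul_one]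
      exact neg_ne_zero.2 (mul_ne_zero (inv_ne_zero htb) ht0)
    have hbfix := fix_step (hn (t • b) c htb hc hPtb hcP ht.symm) hc0 hru hfix
    have h1 := hu.2 (t • b) ⟨hPtb, hbfix⟩
    rw [polar_comm, polar_smul_right, hub, smul_eq_mul, mul_one] at h1
    exact ht0 h1
  -- hence `ker P = ⟨u, b₀⟩`
  set pr : V → V := fun w => w + polar Q w b₀ • u + polar Q w u • b₀ with hpr
  have hprP : ∀ w, h.P w = 0 → h.P (pr w) = 0 := by
    intro w hw
    rw [hpr]
    simp only [map_add, map_smul, hw, hu.1, hb₀P, smul_zero, add_zero]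
  have hpru : ∀ w, polar Q u (pr w) = 0 := by
    intro w
    rw [hpr]
    simp only [polar_add_right, polar_smul_right, smul_eq_mul]
    rw [polar_self0 h.two, hub₀, polar_comm Q w u, mul_zero, mul_one, add_zero]
    exact add_self h.two _
  have hprb : ∀ w, polar Q b₀ (pr w) = 0 := by
    intro w
    rw [hpr]
    simp only [polar_add_right, polar_smul_right, smul_eq_mul]
    rw [polar_self0 h.two, polar_comm Q b₀ u, hub₀, polar_comm Q w b₀, mul_zero, mul_one, add_zero]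
    exact add_self h.two _
  have hplane : ∀ w, h.P w = 0 → pr w = 0 := by
    intro w hw
    by_contra hne
    obtain ⟨y', hy'⟩ := h.nd.exists_polar_eq hne 1
    set y1 := pr (y' + h.P y') with hy1
    have hy1P : h.P y1 = 0 := hprP _ (h.proj_ker y')
    have h1 : polar Q (pr w) y1 = 1 := by
      rw [hy1, hpr]
      simp only [polar_add_right, polar_smul_right, smul_eq_mul]
      have e1 : polar Q (pr w) (h.P y') = 0 := h.polar_P (hprP w hw) y'
      have e2 : polar Q (pr w) u = 0 := by rw [polar_comm]; exact hpru w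
      have e3 : polar Q (pr w) b₀ = 0 := by rw [polar_comm]; exact hprb w
      rw [hpr] at e1 e2 e3 hy'
      simp only at e1 e2 e3 hy'
      rw [e1, e2, e3, hy']
      ring
    rcases exists_nonsing h1 with h3 | h3 | h3
    · exact hmain _ (hprP w hw) h3 (hpru w) (hprb w)
    · exact hmain _ hy1P h3 (hpru _) (hprb _)
    · refine hmain _ ?_ h3 ?_ ?_
      · rw [map_add, hprP w hw, hy1P, add_zero]
      · rw [polar_add_right, hpru, hpru, add_zero]
      · rw [polar_add_right, hprb, hprb, add_zero]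
  intro a ha
  have hdec : ∀ w, h.P w = 0 → w = polar Q w b₀ • u + polar Q w u • b₀ := by
    intro w hw
    have h1 := hplane w hw
    rw [hpr] at h1
    simp only [add_assoc] at h1
    exact eq_of_add_zero h.two h1
  have hab₀ : a b₀ - b₀ ∈ Submodule.span F {u} := by
    have h1 := hdec (a b₀) ((hAc a ha).P_zero hb₀P)
    have h3 : polar Q (a b₀) u = 1 := by
      have := polar_map (hAO ha) b₀ u
      rw [hfix a ha, polar_comm Q b₀ u, hub₀] at this
      exact this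
    rw [h3, one_smul] at h1
    rw [h1, add_sub_cancel_right]
    exact Submodule.smul_mem _ _ (Submodule.mem_span_singleton_self u)
  have hw : ∀ w, a w - w ∈ Submodule.span F {u} := by
    intro w
    have h1 : a w - w = a (w + h.P w) - (w + h.P w) := by rw [map_add, hP a ha]; abel
    have h3 := hdec _ (h.proj_ker w)
    rw [h1, h3, map_add, map_smul, map_smul, hfix a ha]
    have e : ∀ (s t : F), s • u + t • a b₀ - (s • u + t • b₀) = t • (a b₀ - b₀) := by
      intro s t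
      rw [smul_sub]; abel
    rw [e]
    exact Submodule.smul_mem _ _ hab₀
  rcases refl_of h.two h.nd (hAO ha) hw with h1 | ⟨hb, h1⟩
  · exact Or.inl h1
  · exact Or.inr ⟨⟨u, hb, h1⟩, u, b₀, hdec⟩

/-- **Case with a preserved vector `a₀`.** -/
theorem refl_c [FiniteDimensional F V] [Finite F] (h : XD Q l d v Y j ζ) (A : Subgroup (V ≃ₗ[F] V)) [Finite A]
    (hA : IsPGroup 2 A) (hAO : A ≤ O Q) (hAc : ∀ a ∈ A, h.Cm a) (hP : ∀ a ∈ A, ∀ w, a (h.P w) = h.P w)
    {a₀ : V} (ha₀P : h.P a₀ = 0) (ha₀ : Q a₀ ≠ 0) (hfa : ∀ a ∈ A, a a₀ = a₀)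
    (hn : ∀ (b : V) (hb : Q b ≠ 0), h.P b = 0 → Q a₀ = Q b → polar Q a₀ b = 0 →
      ∀ a ∈ A, (refl Q b hb * refl Q a₀ ha₀)⁻¹ * a * (refl Q b hb * refl Q a₀ ha₀) ∈ A) :
    ∀ a ∈ A, a = 1 ∨ a = refl Q a₀ ha₀ := by
  have ha₀F : a₀ ∈ h.Fx A := ⟨ha₀P, hfa⟩
  have ha₀0 : a₀ ≠ 0 := by
    rintro rfl
    exact ha₀ (QuadraticMap.map_zero Q)
  -- `A` fixes `ker P ∩ a₀^⊥`
  have hH : ∀ w, h.P w = 0 → polar Q a₀ w = 0 → w ∈ h.Fx A := by
    by_contra hcon
    push Not at hcon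
    obtain ⟨w₀, hw₀, hw₀a, hw₀F⟩ := hcon
    obtain ⟨u₀, hu₀, hu₀0⟩ := h.exists_Pr hw₀ hw₀F
    have hnot : ¬ h.Pr A ≤ Submodule.span F {a₀} := by
      intro hle
      obtain ⟨c, hc⟩ := Submodule.mem_span_singleton.1 (hle hu₀)
      apply hu₀0
      rw [← hc, polar_smul_left, hw₀a, smul_zero]
    obtain ⟨u, hu, huT, hfixT⟩ := isPGroup_fix_mod h.two hA (h.Pr A) (Submodule.span F {a₀})
      (h.Pr_inv hAO hAc) (by
        intro a ha w hw
        obtain ⟨c, rfl⟩ := Submodule.mem_span_singleton.1 hw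
        rw [map_smul, hfa a ha]
        exact hw) hnot
    have hua₀ : polar Q a₀ u = 0 := hu.2 a₀ ha₀F
    have hfix : ∀ a ∈ A, a u = u := by
      intro a ha
      obtain ⟨c, hc⟩ := Submodule.mem_span_singleton.1 (hfixT a ha)
      have h1 : a u = u + c • a₀ := by rw [hc]; abel
      have h3 := (hAO ha) u
      rw [h1, Q_add, QuadraticMap.map_smul, polar_smul_right, polar_comm Q u a₀, hua₀, smul_zero, add_zero,
        smul_eq_mul] at h3
      have h4 : c * c * Q a₀ = 0 := by linear_combination h3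
      have h5 : c = 0 := by
        rcases mul_eq_zero.1 h4 with h6 | h6
        · exact mul_self_eq_zero.1 h6
        · exact absurd h6 ha₀
      rw [h1, h5, zero_smul, add_zero]
    have hsep : ∀ c : F, u ≠ c • a₀ := by
      rintro c rfl
      exact huT (Submodule.smul_mem _ _ (Submodule.mem_span_singleton_self a₀))
    obtain ⟨y, hy1, hy2⟩ := exists_sep h.nd hsep
    set b₀ := y + h.P y with hb₀
    have hb₀P : h.P b₀ = 0 := h.proj_ker y
    have hub₀ : polar Q u b₀ = 1 := by rw [hb₀, h.polar_ker hu.1, hy2]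
    have hab₀ : polar Q a₀ b₀ = 0 := by rw [hb₀, h.polar_ker ha₀P, hy1]
    obtain ⟨b, hbP, hb, hub, hab⟩ : ∃ b, h.P b = 0 ∧ Q b ≠ 0 ∧ polar Q u b = 1 ∧ polar Q a₀ b = 0 := by
      by_cases hQ0 : Q b₀ = 0
      · refine ⟨b₀ + a₀, by rw [map_add, hb₀P, ha₀P, add_zero], ?_, ?_, ?_⟩
        · rw [Q_add, hQ0, polar_comm Q b₀ a₀, hab₀, zero_add, add_zero]
          exact ha₀
        · rw [polar_add_right, hub₀, polar_comm Q u a₀, hua₀, add_zero]
        · rw [polar_add_right, hab₀, polar_self0 h.two, add_zero]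
      · exact ⟨b₀, hb₀P, hQ0, hub₀, hab₀⟩
    obtain ⟨t, ht0, ht⟩ := exists_scale h.two hb ha₀
    have htb : Q (t • b) ≠ 0 := by rw [ht]; exact ha₀
    have hPtb : h.P (t • b) = 0 := by rw [map_smul, hbP, smul_zero]
    have hru : (refl Q (t • b) htb * refl Q a₀ ha₀) u =
        u + (-((Q (t • b))⁻¹ * polar Q (t • b) u)) • (t • b) := by
      show refl Q (t • b) htb (refl Q a₀ ha₀ u) = _
      rw [refl_apply ha₀, hua₀, mul_zero, zero_smul, sub_zero, refl_apply, neg_smul, sub_eq_add_neg]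
    have hc0 : -((Q (t • b))⁻¹ * polar Q (t • b) u) ≠ 0 := by
      rw [polar_comm, polar_smul_right, hub, smul_eq_mul, mul_one]
      exact neg_ne_zero.2 (mul_ne_zero (inv_ne_zero htb) ht0)
    have hbfix := fix_step (hn (t • b) htb hPtb ht.symm (by rw [polar_smul_right, hab, smul_zero])) hc0 hru hfix
    have h1 := hu.2 (t • b) ⟨hPtb, hbfix⟩
    rw [polar_comm, polar_smul_right, hub, smul_eq_mul, mul_one] at h1
    exact ht0 h1
  -- a vector of `ker P` with product one with `a₀`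
  obtain ⟨y, hy⟩ := h.nd.exists_polar_eq ha₀0 1
  set y1 := y + h.P y with hy1
  have hy1P : h.P y1 = 0 := h.proj_ker y
  have hay1 : polar Q a₀ y1 = 1 := by rw [hy1, h.polar_ker ha₀P, hy]
  intro a ha
  have hy1a : a y1 - y1 ∈ Submodule.span F {a₀} := by
    by_contra hnot
    have hsep : ∀ c : F, a y1 - y1 ≠ c • a₀ := by
      intro c hc
      apply hnot
      rw [hc]
      exact Submodule.smul_mem _ _ (Submodule.mem_span_singleton_self a₀)
    obtain ⟨w, hw1, hw2⟩ := exists_sep h.nd hsep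
    have hPd : h.P (a y1 - y1) = 0 := by rw [map_sub, (hAc a ha).P_zero hy1P, hy1P, sub_zero]
    set w' := w + h.P w with hw'
    have hw'P : h.P w' = 0 := h.proj_ker w
    have h1 : polar Q (a y1 - y1) w' = 1 := by rw [hw', h.polar_ker hPd, hw2]
    have h3 : polar Q a₀ w' = 0 := by rw [hw', h.polar_ker ha₀P, hw1]
    have h4 := (hH w' hw'P h3).2 a ha
    have h5 := polar_map (hAO ha) y1 w'
    rw [h4] at h5
    rw [polar_sub_left, h5, sub_self] at h1
    exact zero_ne_one h1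
  have hw : ∀ w, a w - w ∈ Submodule.span F {a₀} := by
    intro w
    have h1 : a w - w = a (w + h.P w) - (w + h.P w) := by rw [map_add, hP a ha]; abel
    set w' := w + h.P w with hw'
    have hw'P : h.P w' = 0 := h.proj_ker w
    have h3 : w' + polar Q a₀ w' • y1 ∈ h.Fx A := by
      apply hH
      · rw [map_add, map_smul, hw'P, hy1P, smul_zero, add_zero]
      · rw [polar_add_right, polar_smul_right, hay1, smul_eq_mul, mul_one]
        exact add_self h.two _
    have h4 := h3.2 a ha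
    rw [map_add, map_smul] at h4
    have h5 : a w' - w' = -(polar Q a₀ w' • (a y1 - y1)) := by
      rw [smul_sub]
      have : a w' = w' + polar Q a₀ w' • y1 - polar Q a₀ w' • a y1 := by rw [← h4]; abel
      rw [this]; abel
    rw [h1, h5]
    exact Submodule.neg_mem _ (Submodule.smul_mem _ _ hy1a)
  rcases refl_of h.two h.nd (hAO ha) hw with h1 | ⟨hb, h1⟩
  · exact Or.inl h1
  · exact Or.inr h1

end XD

end Cfsg.Agent.H739.SK.Om
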