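import Cfsg.Agent.H739.SK.OmLin
import Cfsg.Agent.H739.SK.OmRefl
import Cfsg.Agent.H739.SK.OmCase

/-!
# S3010: no minimal counterexample has `K ≃* E Q` in characteristic two, `dim ≥ 5`, all automorphisms semisimilar
(helper739)
-/

set_option autoImplicit false
set_option linter.unusedSectionVars false
set_option linter.unusedVariables false

universe u v w

open Subgroup Cfsg

namespace Cfsg.Agent.H739.SK.Om

open QuadraticMap Cfsg.Agent.LieClassical.OrthCore Cfsg.Agent.LieClassical.OrthTrans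
  Cfsg.Agent.ClassicalGeometry.OrthSemi
open Cfsg.Agent.H282.SK (Cx O2)
open Module (finrank)

theorem card_le_two_mul {G : Type*} [Group G] [Finite G] {A B : Subgroup G}
    (h : ∀ x ∈ B, ∀ y ∈ B, x ∉ A → y ∉ A → x * y⁻¹ ∈ A) : Nat.card B ≤ 2 * Nat.card A := by
  classical
  by_cases hall : B ≤ A
  · have := Subgroup.card_le_of_le hall
    omega
  rw [SetLike.not_le_iff_exists] at hall
  obtain ⟨y, hyB, hyA⟩ := hall
  let f : B → Bool × A := fun b =>
    if hb : (b : G) ∈ A then (true, ⟨b, hb⟩) else (false, ⟨b * y⁻¹, h b b.2 y hyB hb hyA⟩)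
  have hf : Function.Injective f := by
    intro b c hbc
    by_cases hb : (b : G) ∈ A
    · by_cases hc : (c : G) ∈ A
      · simp only [f, dif_pos hb, dif_pos hc, Prod.mk.injEq, true_and] at hbc
        exact Subtype.ext (congrArg (fun a : A => (a : G)) hbc)
      · simp only [f, dif_pos hb, dif_neg hc, Prod.mk.injEq] at hbc
        exact absurd hbc.1 (by decide)
    · by_cases hc : (c : G) ∈ A
      · simp only [f, dif_neg hb, dif_pos hc, Prod.mk.injEq] at hbc
        exact absurd hbc.1 (by decide)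
      · simp only [f, dif_neg hb, dif_neg hc, Prod.mk.injEq, true_and] at hbc
        exact Subtype.ext (mul_right_cancel (congrArg (fun a : A => (a : G)) hbc))
  have h1 := Nat.card_le_card_of_injective f hf
  rw [Nat.card_prod] at h1
  simpa using h1

variable {G : Type u} [Group G] [Finite G] {V K : Subgroup G} [K.Normal]
variable {F : Type v} {W : Type w} [Field F] [AddCommGroup W] [Module F W] {Q : QuadraticForm F W}

/-- every element of `G` acts as a semisimilitude -/
def Act (ε : K ≃* E Q) : Prop :=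
  ∀ g : G, ∃ M : Gam Q, ∀ k : K, conjLin M (ε k : W ≃ₗ[F] W) = (ε (MulAut.conjNormal g k) : W ≃ₗ[F] W)

section

variable {ε : K ≃* E Q}

theorem Act.sl (hact : Act ε) (g : G) : ∃ M σ c, Sl ε g M σ c := by
  obtain ⟨M, hM⟩ := hact g
  obtain ⟨σ, c, hs⟩ := M.2
  exact ⟨M, σ, c, hs, hM⟩

theorem Cx.faith (h : Cx V K) : ∀ g : G, (∀ k ∈ K, g * k = k * g) → g = 1 := fun g hg => h.eq_one_of_comm hg

/-- `V ∩ K ≠ 1` -/
theorem exists_mem_inf [Finite F] [FiniteDimensional F W] (h2 : (2 : F) = 0) (hG : Good Q) (h : Cx V K)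
    (hact : Act ε) : ∃ v ∈ V, v ≠ 1 ∧ v ∈ K := by
  by_contra hcon
  push Not at hcon
  have hbot : V ⊓ K = ⊥ := by
    rw [eq_bot_iff]
    intro g hg
    rw [mem_bot]
    by_contra hg1
    exact hcon g hg.1 hg1 hg.2
  let B : Subgroup G := V ⊓
    { carrier := {g | ∃ η, Lin ε g η}
      mul_mem' := by
        rintro g g' ⟨η, H⟩ ⟨η', H'⟩
        exact ⟨_, H.mul H'⟩
      one_mem' := ⟨1, Lin.one⟩
      inv_mem' := by
        rintro g ⟨η, H⟩
        exact ⟨_, H.inv⟩ }
  have hB : ∀ g, g ∈ B ↔ g ∈ V ∧ ∃ η, Lin ε g η := fun g => Iff.rfl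
  -- a nonsingular vector
  obtain ⟨x, y, hxy⟩ := hG.exists_hyp
  have ha : Q (x + y) ≠ 0 := by
    rw [Q_add, hxy.left, hxy.right, hxy.pair]
    simp
  have h1 : Nat.card B ≤ 2 * Nat.card (V ⊓ K : Subgroup G) := by
    apply card_le_two_mul
    rintro g hg g' hg' hgK hgK'
    obtain ⟨hgV, η, H⟩ := (hB g).1 hg
    obtain ⟨hgV', η', H'⟩ := (hB g').1 hg'
    refine ⟨V.mul_mem hgV (V.inv_mem hgV'), ?_⟩
    apply (H.mul H'.inv).mem_K (Cx.faith h)
    have e1 : refl Q (x + y) ha * η ∈ E Q := by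
      rcases mem_E_or h2 hG ha η H.1 with h3 | h3
      · exact absurd ⟨hgV, H.mem_K (Cx.faith h) h3⟩ hgK
      · exact h3
    have e3 : refl Q (x + y) ha * η' ∈ E Q := by
      rcases mem_E_or h2 hG ha η' H'.1 with h3 | h3
      · exact absurd ⟨hgV', H'.mem_K (Cx.faith h) h3⟩ hgK'
      · exact h3
    have e4 := (E Q).mul_mem e1 ((E Q).inv_mem e3)
    have e5 := conj_mem_E ((O Q).inv_mem (refl_mem_O ha)) e4
    have e6 : (refl Q (x + y) ha)⁻¹ * (refl Q (x + y) ha * η * (refl Q (x + y) ha * η')⁻¹) *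
        (refl Q (x + y) ha)⁻¹⁻¹ = η * η'⁻¹ := by group
    rw [e6] at e5
    exact e5
  have h3 : Nat.card V ≤ 2 * Nat.card B := by
    apply card_le_two_mul
    intro g hg g' hg' hgB hgB'
    refine (hB _).2 ⟨V.mul_mem hg (V.inv_mem hg'), ?_⟩
    have : CharP F 2 := CharTwo.of_one_ne_zero_of_two_eq_zero one_ne_zero h2
    obtain ⟨M, σ, c, hS⟩ := hact.sl g
    obtain ⟨M', σ', c', hS'⟩ := hact.sl g'
    have hs : ∀ t, σ (σ t) = t := hS.sq hG (by rw [h.sq hg]; exact K.one_mem)
    have hs' : ∀ t, σ' (σ' t) = t := hS'.sq hG (by rw [h.sq hg']; exact K.one_mem)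
    have hne : σ ≠ 1 := by
      rintro rfl
      exact hgB ((hB g).2 ⟨hg, hS.lin h2 fun _ => rfl⟩)
    have hne' : σ' ≠ 1 := by
      rintro rfl
      exact hgB' ((hB g').2 ⟨hg', hS'.lin h2 fun _ => rfl⟩)
    have hσσ : σ = σ' := StdRank2.OutField.unique_invol (RingEquiv.ext hs) (RingEquiv.ext hs') hne hne'
    rw [h.inv_eq hg']
    refine (hS.mul hS').lin h2 fun t => ?_
    rw [hσσ]
    exact hs' t
  rw [hbot, Subgroup.card_bot] at h1
  have h4 := h.card
  omega

theorem lin_of_comm [Finite F] (h2 : (2 : F) = 0) (hG : Good Q) (h : Cx V K)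
    (hact : Act ε) {x : K} {l d : F} (hld : l * d = 1) (hirr : Irr l) {P : W →ₗ[F] W} (hP : ∀ w, P (P w) = P w)
    (hP0 : P ≠ 0) (hxP : ∀ w, (ε x : W ≃ₗ[F] W) w + (ε x : W ≃ₗ[F] W)⁻¹ w = l • P w) {g : G}
    (hx : g * x = x * g) : ∃ η, Lin ε g η := by
  obtain ⟨M, σ, c, hS⟩ := hact.sl g
  refine hS.lin_of_comm h2 hG ?_ hx hld hirr hP hP0 hxP
  obtain ⟨k, hk, v, hv, rfl⟩ := h.exists_mul g
  have h1 : k * v * (k * v) = k * (v * k * v⁻¹) * (v * v) := by group
  rw [h1, h.sq hv, mul_one]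
  exact K.mul_mem hk (h.norm.conj_mem k hk v)

/-- odd isometries lie in `E Q` -/
theorem odd_mem_E (hG : Good Q) {X : W ≃ₗ[F] W} (hX : X ∈ O Q) (ho : Odd (orderOf X)) : X ∈ E Q := by
  obtain ⟨n, hn⟩ := ho
  have h1 : X = (X * X) ^ (n + 1) := by
    rw [← pow_two, ← pow_mul]
    have : 2 * (n + 1) = orderOf X + 1 := by rw [hn]; ring
    rw [this, pow_succ, pow_orderOf_eq_one, one_mul]
  rw [h1]
  exact (E Q).pow_mem (H206.OrthBal.sq_mem_E hG hX) _

/-- **The local step.** -/
theorem step [Finite F] [FiniteDimensional F W] (h2 : (2 : F) = 0) (hG : Good Q) (h : Cx V K)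
    (hact : Act ε) {y : G} {η : W ≃ₗ[F] W} (hy : y ∈ V) (hy1 : y ≠ 1) (hη : Lin ε y η)
    {X : W ≃ₗ[F] W} (hX : X ∈ O Q) (ho : Odd (orderOf X)) (hinv : η * X * η⁻¹ = X⁻¹)
    {l d : F} (hld : l * d = 1) (hirr : Irr l) {P : W →ₗ[F] W} (hP : ∀ w, P (P w) = P w)
    (hP0 : P ≠ 0) (hXP : ∀ w, X w + X⁻¹ w = l • P w) (S : (W ≃ₗ[F] W) → Prop)
    (hS : ∀ A : Subgroup (W ≃ₗ[F] W), IsPGroup 2 A → A ≤ O Q → (∀ a ∈ A, a * η = η * a ∧ a * X = X * a) →
      (∀ r ∈ E Q, r * η = η * r → r * X = X * r → ∀ a ∈ A, r⁻¹ * a * r ∈ A) → ∀ a ∈ A, a = 1 ∨ S a) :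
    ∃ w ∈ V, w ≠ 1 ∧ ∃ a, Lin ε w a ∧ S a := by
  have hf := Cx.faith h
  have hXE := odd_mem_E hG hX ho
  obtain ⟨x, hx⟩ := ε.surjective ⟨X, hXE⟩
  have hεx : (ε x : W ≃ₗ[F] W) = X := congrArg Subtype.val hx
  have hLx : Lin ε (x : G) X := by
    have := Lin.of_K (ε := ε) x
    rwa [hεx] at this
  have hxo : Odd (orderOf (x : G)) := by
    rw [Subgroup.orderOf_coe, ← MulEquiv.orderOf_eq ε, hx, ← Subgroup.orderOf_coe]
    exact ho
  have hyx : y * x * y⁻¹ = (x : G)⁻¹ := by
    have h1 := (hη.mul hLx).mul hη.inv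
    rw [hinv] at h1
    exact h1.uniq' hf hLx.inv
  obtain ⟨w, hw, hw1, hwx, hwO⟩ := h.t1 hy hy1 hxo hyx
  set C := centralizer ({y} : Set G) ⊓ centralizer ({(x : G)} : Set G) with hC
  have hmC : ∀ g, g ∈ C ↔ g * y = y * g ∧ g * x = x * g := fun g => by
    rw [hC, mem_inf, mem_centralizer_singleton_iff, mem_centralizer_singleton_iff]
  have hlin : ∀ g ∈ C, ∃ a, Lin ε g a := fun g hg =>
    lin_of_comm h2 hG h hact hld hirr hP hP0 (by rw [hεx]; exact hXP) ((hmC g).1 hg).2
  have hcomm : ∀ g ∈ C, ∀ a, Lin ε g a → a * η = η * a ∧ a * X = X * a := fun g hg a H =>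
    ⟨H.comm h2 hG hη ((hmC g).1 hg).1, H.comm h2 hG hLx ((hmC g).1 hg).2⟩
  have hmain := hS (lifts ε (O2 C)) (isPGroup_lifts h2 hG ε (H282.SK.isPGroup_O2 C)) (lifts_le_O ε _)
    (by
      rintro a ⟨g, hg, H⟩
      exact hcomm g (H282.SK.O2_le C hg) a H)
    (by
      intro r hr hrη hrX a ha
      obtain ⟨g, hg, H⟩ := ha
      obtain ⟨k, hk⟩ := ε.surjective ⟨r, hr⟩
      have hLk : Lin ε (k : G) r := by
        have := Lin.of_K (ε := ε) k
        rwa [hk] at this
      have hkC : (k : G) ∈ C := by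
        rw [hmC]
        constructor
        · have h1 := hη.mul hLk
          rw [← hrη] at h1
          exact (hLk.mul hη).uniq' hf h1
        · have h1 := hLx.mul hLk
          rw [← hrX] at h1
          exact (hLk.mul hLx).uniq' hf h1
      refine ⟨(k : G)⁻¹ * g * k, ?_, (hLk.inv.mul H).mul hLk⟩
      have h3 := H282.SK.conj_mem_O2 (C.inv_mem hkC) hg
      rwa [inv_inv] at h3)
  obtain ⟨a, ha⟩ := hlin w (H282.SK.O2_le C hwO)
  refine ⟨w, hw, hw1, a, ha, ?_⟩
  rcases hmain a ⟨w, hwO, ha⟩ with h3 | h3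
  · exfalso
    rw [h3] at ha
    exact hw1 (ha.eq_one hf)
  · exact h3

/-- products of two reflections lie in `E Q` -/
theorem refl_mul_mem_E [Finite F] [FiniteDimensional F W] (h2 : (2 : F) = 0) (hG : Good Q) {b c : W}
    (hb : Q b ≠ 0) (hc : Q c ≠ 0) : refl Q b hb * refl Q c hc ∈ E Q := by
  have : CharP F 2 := CharTwo.of_one_ne_zero_of_two_eq_zero one_ne_zero h2
  rcases mem_E_or h2 hG hb _ (refl_mem_O hc) with h3 | h3
  · exact absurd (E_le_Dk hG h3) (refl_notMem_Dk hG.nondeg hc)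
  · exact h3

theorem XD.Cm.mul {l d : F} {v : W ≃ₗ[F] W} {Y : Submodule F W} {j : Y →ₗ[F] W} {ζ : W →ₗ[F] Y}
    {h : XD Q l d v Y j ζ} {g g' : W ≃ₗ[F] W} (hg : h.Cm g) (hg' : h.Cm g') : h.Cm (g * g') :=
  ⟨by rw [mul_assoc, hg'.1, ← mul_assoc, hg.1, mul_assoc], by rw [mul_assoc, hg'.2, ← mul_assoc, hg.2, mul_assoc]⟩

theorem XD.P_ne {l d : F} {v : W ≃ₗ[F] W} {Y : Submodule F W} {j : Y →ₗ[F] W} {ζ : W →ₗ[F] Y}
    (h : XD Q l d v Y j ζ) {z : Y} (hz : z ≠ 0) : h.P ≠ 0 := by
  intro h0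
  apply hz
  have h1 := h.P_Y z
  rw [h0] at h1
  exact Subtype.ext h1.symm

/-- **`V` contains an element acting as a reflection.** -/
theorem exists_refl [Finite F] [FiniteDimensional F W] (h2 : (2 : F) = 0) (hG : Good Q) (h : Cx V K)
    (hact : Act ε) : ∃ w ∈ V, w ≠ 1 ∧ ∃ (b : W) (hb : Q b ≠ 0), Lin ε w (refl Q b hb) := by
  have : Finite W := Module.finite_of_finite F
  have : Finite (W ≃ₗ[F] W) := Finite.of_injective _ DFunLike.coe_injective
  obtain ⟨l, d, hld, hirr⟩ := exists_irr h2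
  obtain ⟨y, hy, hy1, hyK⟩ := exists_mem_inf h2 hG h hact
  have hη : Lin ε y (ε ⟨y, hyK⟩ : W ≃ₗ[F] W) := Lin.of_K (ε := ε) ⟨y, hyK⟩
  have hE : (ε ⟨y, hyK⟩ : W ≃ₗ[F] W) ∈ E Q := (ε ⟨y, hyK⟩).2
  set e : W ≃ₗ[F] W := (ε ⟨y, hyK⟩ : W ≃ₗ[F] W) with he
  have hO : e ∈ O Q := E_le_O hE
  have hee : e * e = 1 := by
    have h1 := hη.mul hη
    rw [h.sq hy] at h1
    exact h1.uniq h2 hG Lin.one
  have hvv : ∀ w, e (e w) = w := fun w => LinearEquiv.congr_fun hee w
  have he1 : e ≠ 1 := by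
    intro h1
    rw [h1] at hη
    exact hy1 (hη.eq_one (Cx.faith h))
  by_cases ha : ∀ y, polar Q y (e y) = 0
  · obtain ⟨j, ζ, H, hs⟩ := exists_XD_a h2 hG.nondeg hld hO hvv ha
    obtain ⟨w₀, hw₀⟩ : ∃ w, e w + w ≠ 0 := by
      by_contra hcon
      push Not at hcon
      apply he1
      ext w
      exact eq_of_add_zero h2 (hcon w)
    have hz : (⟨e w₀ + w₀, H.mem w₀⟩ : ↥(LinearMap.range (e.toLinearMap + LinearMap.id))) ≠ 0 := fun h0 =>
      hw₀ (congrArg Subtype.val h0)
    obtain ⟨w, hw, hw1, a, haL, b, hb, rfl⟩ := step h2 hG h hact hy hy1 hη H.x_mem_O (H.odd_x hz) H.v_x_v hld hirr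
      H.P_P (H.P_ne hz) H.x_add (fun a => ∃ (b : W) (hb : Q b ≠ 0), a = refl Q b hb) (by
        intro A hA hAO hAc hn a haA
        have hCm : ∀ a ∈ A, H.Cm a := fun a ha => hAc a ha
        have hY := H.fix_Y A hA hAO hCm
          (fun z hz a ha => hn _ (H.tau_mem_E hz) (H.cm_tau hz).1 (H.cm_tau hz).2 a ha) hs
        have hP := H.fix_P hCm hY
        rcases H.refl_a A hA hAO hCm hP (fun b c hb hc hPb hPc _ a ha =>
          hn _ (refl_mul_mem_E h2 hG hb hc) ((H.cm_refl hb hPb).mul (H.cm_refl hc hPc)).1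
            ((H.cm_refl hb hPb).mul (H.cm_refl hc hPc)).2 a ha) a haA with h3 | ⟨h3, _⟩
        · exact Or.inl h3
        · exact Or.inr h3)
    exact ⟨w, hw, hw1, b, hb, haL⟩
  · push Not at ha
    obtain ⟨y₀, hy₀⟩ := ha
    obtain ⟨a₀, ha₀, v₁, Y, j, ζ, H, hs, hYb, hPa, hev⟩ := exists_XD_c h2 hG hld hE hvv hy₀
    obtain ⟨z, hzY, hz0⟩ := (Submodule.ne_bot_iff _).1 hYb
    have hz : (⟨z, hzY⟩ : Y) ≠ 0 := fun h0 => hz0 (congrArg Subtype.val h0)
    have hr := H.cm_refl ha₀ hPa
    have hinv : e * H.x * e⁻¹ = H.x⁻¹ := by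
      rw [hev, mul_inv_rev, mul_assoc v₁, hr.2]
      calc v₁ * (H.x * refl Q a₀ ha₀) * ((refl Q a₀ ha₀)⁻¹ * v₁⁻¹) = v₁ * H.x * v₁⁻¹ := by group
        _ = H.x⁻¹ := H.v_x_v
    obtain ⟨w, hw, hw1, a, haL, rfl⟩ := step h2 hG h hact hy hy1 hη H.x_mem_O (H.odd_x hz) hinv hld hirr
      H.P_P (H.P_ne hz) H.x_add (fun a => a = refl Q a₀ ha₀) (by
        intro A hA hAO hAc hn a haA
        -- elements of `A` commute with `P`
        have hPc : ∀ a ∈ A, ∀ w, a (H.P w) = H.P (a w) := by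
          intro a ha w
          have e1 : a (H.x w) = H.x (a w) := LinearEquiv.congr_fun (hAc a ha).2 w
          have e3 : a (H.x⁻¹ w) = H.x⁻¹ (a w) := by
            have h3 : a * H.x⁻¹ = H.x⁻¹ * a := by
              rw [mul_inv_eq_iff_eq_mul, mul_assoc, (hAc a ha).2, inv_mul_cancel_left]
            exact LinearEquiv.congr_fun h3 w
          have e4 := congrArg a (H.x_add w)
          rw [map_add, e1, e3, H.x_add, map_smul] at e4
          have e5 : l • (a (H.P w) - H.P (a w)) = 0 := by rw [smul_sub, e4, sub_self]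
          rcases smul_eq_zero.1 e5 with h5 | h5
          · exact absurd h5 H.l_ne
          · exact sub_eq_zero.1 h5
        have hv₁ : ∀ w, v₁ w = e (H.P w) + (w + H.P w) := by
          intro w
          have e1 : e (H.P w) = v₁ (H.P w) := by
            rw [hev]
            show v₁ (refl Q a₀ ha₀ (H.P w)) = v₁ (H.P w)
            rw [refl_apply, H.polar_P hPa]
            simp
          have e3 : v₁ (w + H.P w) = w + H.P w := H.v_of_P (H.P_add_self w)
          rw [e1, ← e3, ← map_add]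
          congr 1
          rw [add_comm w, ← add_assoc, vadd_self h2, zero_add]
        have hCm : ∀ a ∈ A, H.Cm a := by
          intro a ha
          refine ⟨?_, (hAc a ha).2⟩
          ext w
          show a (v₁ w) = v₁ (a w)
          rw [hv₁, hv₁, map_add, map_add, hPc a ha]
          have e1 : a (e (H.P w)) = e (a (H.P w)) := LinearEquiv.congr_fun (hAc a ha).1 _
          rw [e1, hPc a ha]
        have hfa : ∀ a ∈ A, a a₀ = a₀ := by
          intro a ha
          have h5 : a * refl Q a₀ ha₀ = refl Q a₀ ha₀ * a := by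
            have e1 : refl Q a₀ ha₀ = v₁⁻¹ * e := by rw [hev, inv_mul_cancel_left]
            have e3 : a * v₁⁻¹ = v₁⁻¹ * a := by
              rw [mul_inv_eq_iff_eq_mul, mul_assoc, (hCm a ha).1, inv_mul_cancel_left]
            rw [e1, ← mul_assoc, e3, mul_assoc, (hAc a ha).1, mul_assoc]
          obtain ⟨y', hy'⟩ : ∃ y', polar Q a₀ y' ≠ 0 := by
            by_contra hcon
            push Not at hcon
            have h0 := hG.nondeg a₀ hcon
            rw [h0, QuadraticMap.map_zero] at ha₀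
            exact ha₀ rfl
          have h6 : a (refl Q a₀ ha₀ y') = refl Q a₀ ha₀ (a y') := LinearEquiv.congr_fun h5 y'
          rw [refl_apply, refl_apply, map_sub, map_smul] at h6
          have h7 := sub_right_injective h6
          have h8 : Q (a a₀) = Q a₀ := mem_O.1 (hAO ha) a₀
          set s := (Q a₀)⁻¹ * polar Q a₀ y' with hs'
          set t := (Q a₀)⁻¹ * polar Q a₀ (a y') with ht'
          have hs0 : s ≠ 0 := mul_ne_zero (inv_ne_zero ha₀) hy'
          have h7' : s • a a₀ = t • a₀ := h7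
          have h9 : a a₀ = (s⁻¹ * t) • a₀ := by
            rw [mul_smul, ← h7', smul_smul, inv_mul_cancel₀ hs0, one_smul]
          rw [h9, QuadraticMap.map_smul, smul_eq_mul] at h8
          have h10 : (s⁻¹ * t) * (s⁻¹ * t) = 1 * 1 := by
            have := mul_right_cancel₀ ha₀ (h8.trans (one_mul (Q a₀)).symm)
            rw [this, one_mul]
          rw [h9, sq_inj h2 h10, one_smul]
        have hY := H.fix_Y A hA hAO hCm (fun z hz a ha => by
          have hc := H.cm_tau hz
          refine hn _ (H.tau_mem_E hz) ?_ hc.2 a ha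
          have hc' : H.tau hz * refl Q a₀ ha₀ = refl Q a₀ ha₀ * H.tau hz := by
            have hta : H.tau hz a₀ = a₀ := by
              have e1 : polar Q (z : W) a₀ = 0 := by
                rw [polar_comm]
                have := H.polar_P hPa (z : W)
                rwa [H.P_Y] at this
              have e3 : polar Q (j z) a₀ = 0 := by
                rw [polar_comm]
                have := H.polar_P hPa (j z)
                rwa [H.P_j] at this
              rw [H.tau_apply, e1, e3, zero_smul, zero_smul, add_zero, add_zero]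
            ext w
            show H.tau hz (refl Q a₀ ha₀ w) = refl Q a₀ ha₀ (H.tau hz w)
            have e4 : polar Q a₀ (H.tau hz w) = polar Q a₀ w := by
              have := polar_map (E_le_O (H.tau_mem_E hz)) a₀ w
              rwa [hta] at this
            rw [refl_apply, refl_apply, map_sub, map_smul, hta, e4]
          rw [hev, ← mul_assoc, hc.1, mul_assoc, hc', mul_assoc]) hs
        have hP := H.fix_P hCm hY
        exact H.refl_c A hA hAO hCm hP hPa ha₀ hfa (fun b hb hPb hQ hpol a ha => by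
          have h5 := (H.cm_refl hb hPb).mul hr
          refine hn _ (refl_mul_mem_E h2 hG hb ha₀) ?_ h5.2 a ha
          have h7 : refl Q b hb * refl Q a₀ ha₀ = refl Q a₀ ha₀ * refl Q b hb := by
            ext w
            show refl Q b hb (refl Q a₀ ha₀ w) = refl Q a₀ ha₀ (refl Q b hb w)
            have e1 : refl Q b hb a₀ = a₀ := by
              rw [refl_apply, polar_comm, hpol]
              simp
            have e4 : polar Q a₀ (refl Q b hb w) = polar Q a₀ w := by
              have := polar_map (refl_mem_O hb) a₀ w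
              rwa [e1] at this
            rw [refl_apply ha₀ w, refl_apply ha₀ (refl Q b hb w), map_sub, map_smul, e1, e4]
          have h8 : refl Q b hb * refl Q a₀ ha₀ * refl Q a₀ ha₀ = refl Q a₀ ha₀ * (refl Q b hb * refl Q a₀ ha₀) := by
            rw [mul_assoc, ← mul_assoc (refl Q a₀ ha₀), ← h7, mul_assoc]
          rw [hev, ← mul_assoc, h5.1, mul_assoc, h8, mul_assoc]) a haA)
    exact ⟨w, hw, hw1, a₀, ha₀, haL⟩

/-- **Main theorem of the row.** -/
theorem dead [Finite F] [FiniteDimensional F W] (h2 : (2 : F) = 0) (hG : Good Q) (hdim : 5 ≤ finrank F W)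
    (h : Cx V K) (hact : Act ε) : False := by
  have : Finite W := Module.finite_of_finite F
  have : Finite (W ≃ₗ[F] W) := Finite.of_injective _ DFunLike.coe_injective
  obtain ⟨l, d, hld, hirr⟩ := exists_irr h2
  obtain ⟨y, hy, hy1, b, hb, hη⟩ := exists_refl h2 hG h hact
  obtain ⟨j, ζ, H, hs, e, he⟩ := exists_XD_r h2 hG hld hb
  have hz : (⟨b, Submodule.mem_span_singleton_self b⟩ : ↥(Submodule.span F {b})) ≠ 0 := by
    intro h0
    apply hb
    have h1 : b = 0 := congrArg Subtype.val h0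
    rw [h1, QuadraticMap.map_zero]
  obtain ⟨w, hw, hw1, a, haL, hF⟩ := step h2 hG h hact hy hy1 hη H.x_mem_O (H.odd_x hz) H.v_x_v hld hirr
    H.P_P (H.P_ne hz) H.x_add (fun _ => False) (by
      intro A hA hAO hAc hn a haA
      have hCm : ∀ a ∈ A, H.Cm a := fun a ha => hAc a ha
      have hY := H.fix_Y A hA hAO hCm
        (fun z hz a ha => hn _ (H.tau_mem_E hz) (H.cm_tau hz).1 (H.cm_tau hz).2 a ha) hs
      have hP := H.fix_P hCm hY
      rcases H.refl_a A hA hAO hCm hP (fun b c hb hc hPb hPc _ a ha =>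
        hn _ (refl_mul_mem_E h2 hG hb hc) ((H.cm_refl hb hPb).mul (H.cm_refl hc hPc)).1
          ((H.cm_refl hb hPb).mul (H.cm_refl hc hPc)).2 a ha) a haA with h3 | ⟨_, u, b₀, h3⟩
      · exact Or.inl h3
      · exfalso
        have htop : (⊤ : Submodule F W) ≤ Submodule.span F {b, e, u, b₀} := by
          intro w _
          obtain ⟨s, t, hst⟩ := he w
          have h5 := h3 _ (H.P_add_self w)
          have h6 : w = (w + H.P w) + H.P w := by
            rw [add_assoc, vadd_self h2, add_zero]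
          rw [h6, h5, hst]
          have hm : ∀ x ∈ ({b, e, u, b₀} : Set W), x ∈ Submodule.span F {b, e, u, b₀} := fun x hx =>
            Submodule.subset_span hx
          refine Submodule.add_mem _ (Submodule.add_mem _ ?_ ?_) (Submodule.add_mem _ ?_ ?_)
          · exact Submodule.smul_mem _ _ (hm u (by simp))
          · exact Submodule.smul_mem _ _ (hm b₀ (by simp))
          · exact Submodule.smul_mem _ _ (hm b (by simp))
          · exact Submodule.smul_mem _ _ (hm e (by simp))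
        have h7 : finrank F W ≤ 4 := by
          classical
          have h8 := finrank_span_finset_le_card (R := F) ({b, e, u, b₀} : Finset W)
          have h9 : ((({b, e, u, b₀} : Finset W) : Set W)) = {b, e, u, b₀} := by simp
          rw [h9] at h8
          have h10 : Submodule.span F {b, e, u, b₀} = ⊤ := top_le_iff.1 htop
          rw [Set.finrank, h10, finrank_top] at h8
          exact h8.trans Finset.card_le_four
        omega)
  exact hF

end

end Cfsg.Agent.H739.SK.Om
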