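import Cfsg.Agent.H739.SK.OmField
import Cfsg.Agent.ClassicalGeometry.OrthSemi
import Cfsg.Agent.H206.OrthBal
import Cfsg.Agent.StdRank2.OutField
import Cfsg.Agent.H282.SK.Def

/-!
# S3010, orthogonal groups in characteristic two: isometries inducing group elements (helper739)

`ε : K ≃* E Q`, `K` normal in `G`; `Lin ε g h` says that the isometry `h` of `Q` induces the conjugation by `g`.
-/

set_option autoImplicit false
set_option linter.unusedSectionVars false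
set_option linter.unusedVariables false

universe u v w

open Subgroup Cfsg

namespace Cfsg.Agent.H739.SK.Om

open QuadraticMap Cfsg.Agent.LieClassical.OrthCore Cfsg.Agent.LieClassical.OrthTrans
  Cfsg.Agent.ClassicalGeometry.OrthSemi
open Cfsg.Agent.H282.SK (Cx O2)
open Module (finrank)

variable {G : Type u} [Group G] {K : Subgroup G} [K.Normal]
variable {F : Type v} {W : Type w} [Field F] [AddCommGroup W] [Module F W] {Q : QuadraticForm F W}

/-! ### isometries as semisimilitudes -/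

/-- an isometry as a semisimilitude -/
def ofO {g : W ≃ₗ[F] W} (hg : g ∈ O Q) : Gam Q :=
  ⟨g.toEquiv, RingEquiv.refl F, 1, one_ne_zero, fun _ _ => map_add g _ _, fun _ _ => map_smul g _ _, fun w => by
    rw [one_mul]; exact mem_O.1 hg w⟩

theorem ofO_apply {g : W ≃ₗ[F] W} (hg : g ∈ O Q) (w : W) : (ofO hg).1 w = g w := rfl

theorem conjLin_ofO {g : W ≃ₗ[F] W} (hg : g ∈ O Q) (k : W ≃ₗ[F] W) : conjLin (ofO hg) k = g * k * g⁻¹ := by
  ext w
  rfl

/-- An isometry commuting with `E Q` is trivial (characteristic two). -/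
theorem eq_one_of_comm (h2 : (2 : F) = 0) (hG : Good Q) {g : W ≃ₗ[F] W} (hg : g ∈ O Q)
    (hc : ∀ k ∈ E Q, g * k = k * g) : g = 1 := by
  obtain ⟨a, ha, hw⟩ := exists_scalar_of_conjE hG (ofO hg) (by
    ext k : 2
    rw [coe_conjE, conjLin_ofO, hc k.1 k.2, mul_inv_cancel_right]
    rfl)
  obtain ⟨x, y, hxy⟩ := hG.exists_hyp
  have h1 : polar Q (g x) (g y) = polar Q x y := polar_map hg x y
  have hx : g x = a • x := hw x
  have hy : g y = a • y := hw y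
  rw [hx, hy, polar_smul_left, polar_smul_right, hxy.pair, smul_eq_mul, smul_eq_mul, mul_one] at h1
  have h3 : a = 1 := by
    have h4 : (a - 1) * (a - 1) = 0 := by linear_combination h1 + (1 - a) * h2
    have h5 := mul_self_eq_zero.1 h4
    linear_combination h5
  ext w
  have h4 := hw w
  rw [h3, one_smul] at h4
  exact h4

/-! ### `Lin` -/

/-- `h` induces the conjugation by `g` -/
def Lin (ε : K ≃* E Q) (g : G) (h : W ≃ₗ[F] W) : Prop :=
  h ∈ O Q ∧ ∀ k : K, h * (ε k : W ≃ₗ[F] W) = (ε (MulAut.conjNormal g k) : W ≃ₗ[F] W) * h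

namespace Lin

variable {ε : K ≃* E Q} {g g' : G} {h h' : W ≃ₗ[F] W}

theorem one : Lin ε 1 1 := ⟨(O Q).one_mem, fun k => by rw [map_one, MulAut.one_apply, one_mul, mul_one]⟩

theorem mul (H : Lin ε g h) (H' : Lin ε g' h') : Lin ε (g * g') (h * h') :=
  ⟨(O Q).mul_mem H.1 H'.1, fun k => by
    rw [map_mul, MulAut.mul_apply, mul_assoc, H'.2, ← mul_assoc, H.2, mul_assoc]⟩

theorem inv (H : Lin ε g h) : Lin ε g⁻¹ h⁻¹ := by
  refine ⟨(O Q).inv_mem H.1, fun k => ?_⟩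
  have h1 := H.2 (MulAut.conjNormal g⁻¹ k)
  rw [← MulAut.mul_apply, ← map_mul, mul_inv_cancel, map_one, MulAut.one_apply] at h1
  rw [inv_mul_eq_iff_eq_mul, ← mul_assoc, h1, mul_inv_cancel_right]

theorem pow (H : Lin ε g h) (n : ℕ) : Lin ε (g ^ n) (h ^ n) := by
  induction n with
  | zero => rw [pow_zero, pow_zero]; exact one
  | succ n ih => rw [pow_succ, pow_succ]; exact ih.mul H

theorem of_K (k : K) : Lin ε (k : G) (ε k : W ≃ₗ[F] W) := by
  refine ⟨E_le_O (ε k).2, fun k' => ?_⟩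
  have h1 : (MulAut.conjNormal (k : G) k' : K) = k * k' * k⁻¹ := by
    apply Subtype.ext
    rw [MulAut.conjNormal_apply]
    rfl
  rw [h1, map_mul, map_mul, map_inv]
  show (ε k : W ≃ₗ[F] W) * (ε k' : W ≃ₗ[F] W) =
    (ε k : W ≃ₗ[F] W) * (ε k' : W ≃ₗ[F] W) * (ε k : W ≃ₗ[F] W)⁻¹ * (ε k : W ≃ₗ[F] W)
  rw [inv_mul_cancel_right]

theorem uniq (h2 : (2 : F) = 0) (hG : Good Q) (H : Lin ε g h) (H' : Lin ε g h') : h = h' := by
  have h1 : h'⁻¹ * h = 1 := by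
    apply eq_one_of_comm h2 hG ((O Q).mul_mem ((O Q).inv_mem H'.1) H.1)
    intro k hk
    obtain ⟨k', hk'⟩ := ε.surjective ⟨k, hk⟩
    have hk'' : (ε k' : W ≃ₗ[F] W) = k := congrArg Subtype.val hk'
    have e1 := H.2 k'
    have e3 := H'.2 k'
    rw [hk''] at e1 e3
    have e4 : k * h'⁻¹ = h'⁻¹ * (ε (MulAut.conjNormal g k') : W ≃ₗ[F] W) := by
      rw [mul_inv_eq_iff_eq_mul, mul_assoc, ← e3, inv_mul_cancel_left]
    rw [mul_assoc, e1, ← mul_assoc, ← e4, mul_assoc]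
  rw [inv_mul_eq_one] at h1
  exact h1.symm

theorem comm (h2 : (2 : F) = 0) (hG : Good Q) (H : Lin ε g h) (H' : Lin ε g' h') (hc : g * g' = g' * g) :
    h * h' = h' * h := by
  have h1 := H.mul H'
  rw [hc] at h1
  exact h1.uniq h2 hG (H'.mul H)

theorem uniq' (hf : ∀ g : G, (∀ k ∈ K, g * k = k * g) → g = 1) (H : Lin ε g h) (H' : Lin ε g' h) : g = g' := by
  have h1 := H'.inv.mul H
  rw [inv_mul_cancel] at h1
  have h3 : g'⁻¹ * g = 1 := by
    apply hf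
    intro k hk
    have h4 := h1.2 ⟨k, hk⟩
    rw [one_mul, mul_one] at h4
    have h5 := congrArg Subtype.val (ε.injective (Subtype.ext h4))
    rw [MulAut.conjNormal_apply] at h5
    have h6 : k = g'⁻¹ * g * k * (g'⁻¹ * g)⁻¹ := h5
    exact (mul_inv_eq_iff_eq_mul.1 h6.symm)
  rw [inv_mul_eq_one] at h3
  exact h3.symm

theorem mem_K (hf : ∀ g : G, (∀ k ∈ K, g * k = k * g) → g = 1) (H : Lin ε g h) (hE : h ∈ E Q) : g ∈ K := by
  obtain ⟨k, hk⟩ := ε.surjective ⟨h, hE⟩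
  have h1 : Lin ε (k : G) h := by
    have := of_K (ε := ε) k
    rwa [hk] at this
  rw [H.uniq' hf h1]
  exact k.2

theorem eq_one (hf : ∀ g : G, (∀ k ∈ K, g * k = k * g) → g = 1) (H : Lin ε g 1) : g = 1 := H.uniq' hf one

end Lin

/-- the isometries inducing elements of `S` -/
def lifts (ε : K ≃* E Q) (S : Subgroup G) : Subgroup (W ≃ₗ[F] W) where
  carrier := {h | ∃ g ∈ S, Lin ε g h}
  mul_mem' := by
    rintro h h' ⟨g, hg, H⟩ ⟨g', hg', H'⟩
    exact ⟨_, S.mul_mem hg hg', H.mul H'⟩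
  one_mem' := ⟨1, S.one_mem, Lin.one⟩
  inv_mem' := by
    rintro h ⟨g, hg, H⟩
    exact ⟨_, S.inv_mem hg, H.inv⟩

theorem mem_lifts {ε : K ≃* E Q} {S : Subgroup G} {h : W ≃ₗ[F] W} : h ∈ lifts ε S ↔ ∃ g ∈ S, Lin ε g h := Iff.rfl

theorem lifts_le_O (ε : K ≃* E Q) (S : Subgroup G) : lifts ε S ≤ O Q := by
  rintro h ⟨g, _, H⟩
  exact H.1

theorem isPGroup_lifts (h2 : (2 : F) = 0) (hG : Good Q) (ε : K ≃* E Q) {S : Subgroup G} (hS : IsPGroup 2 S) :
    IsPGroup 2 (lifts ε S) := by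
  rintro ⟨h, g, hg, H⟩
  obtain ⟨n, hn⟩ := hS ⟨g, hg⟩
  refine ⟨n, Subtype.ext ?_⟩
  have h1 : g ^ 2 ^ n = 1 := congrArg Subtype.val hn
  have h3 := H.pow (2 ^ n)
  rw [h1] at h3
  exact h3.uniq h2 hG Lin.one

/-! ### semisimilitudes -/

/-- `M` induces the conjugation by `g` -/
def Sl (ε : K ≃* E Q) (g : G) (M : Gam Q) (σ : F ≃+* F) (c : F) : Prop :=
  IsSS Q σ c M.1 ∧ ∀ k : K, conjLin M (ε k : W ≃ₗ[F] W) = (ε (MulAut.conjNormal g k) : W ≃ₗ[F] W)

namespace Sl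

variable {ε : K ≃* E Q} {g g' : G} {M M' : Gam Q} {σ σ' : F ≃+* F} {c c' : F}

theorem mul (H : Sl ε g M σ c) (H' : Sl ε g' M' σ' c') : Sl ε (g * g') (M * M') (σ'.trans σ) (c * σ c') :=
  ⟨H.1.mul H'.1, fun k => by rw [conjLin_mul_left, H'.2, H.2, map_mul, MulAut.mul_apply]⟩

/-- a linear one can be rescaled to an isometry -/
theorem lin [Finite F] (h2 : (2 : F) = 0) (H : Sl ε g M σ c) (hσ : ∀ t, σ t = t) : ∃ h, Lin ε g h := by
  obtain ⟨a, ha⟩ := sq_surjective h2 c⁻¹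
  have ha0 : a ≠ 0 := by
    rintro rfl
    rw [mul_zero] at ha
    exact inv_ne_zero H.1.ne ha.symm
  let n : W ≃ₗ[F] W :=
    { toFun := M.1
      invFun := M.1.symm
      map_add' := H.1.add
      map_smul' := fun t v => by rw [H.1.smul, hσ]; rfl
      left_inv := M.1.left_inv
      right_inv := M.1.right_inv }
  have hn : ∀ w, n w = M.1 w := fun _ => rfl
  let s : W ≃ₗ[F] W := LinearEquiv.smulOfNeZero F W a ha0
  have hs : ∀ w, s w = a • w := fun _ => rfl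
  refine ⟨s * n, ?_, fun k => ?_⟩
  · rw [mem_O]
    intro w
    show Q (s (n w)) = Q w
    rw [hs, hn, QuadraticMap.map_smul, H.1.form, hσ, ha, smul_eq_mul, ← mul_assoc, inv_mul_cancel₀ H.1.ne, one_mul]
  · ext w
    show s (n ((ε k : W ≃ₗ[F] W) w)) = (ε (MulAut.conjNormal g k) : W ≃ₗ[F] W) (s (n w))
    rw [hs, hs, map_smul, hn, hn, ← H.2 k, conjLin_apply']

/-- if `g ^ 2 ∈ K` then `σ² = 1` -/
theorem sq (hG : Good Q) (H : Sl ε g M σ c) (hg : g * g ∈ K) : ∀ t, σ (σ t) = t := by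
  have hE : (ε ⟨g * g, hg⟩ : W ≃ₗ[F] W) ∈ O Q := E_le_O (ε ⟨g * g, hg⟩).2
  set e : W ≃ₗ[F] W := (ε ⟨g * g, hg⟩ : W ≃ₗ[F] W) with he
  have h1 : conjE Q ((ofO hE)⁻¹ * (M * M)) = 1 := by
    ext k : 2
    obtain ⟨k, rfl⟩ := ε.surjective k
    rw [coe_conjE, conjLin_mul_left, (H.mul H).2 k]
    have h3 : (ε (MulAut.conjNormal (g * g) k) : W ≃ₗ[F] W) = conjLin (ofO hE) (ε k : W ≃ₗ[F] W) := by
      rw [conjLin_ofO]
      have h4 := (Lin.of_K (ε := ε) ⟨g * g, hg⟩).2 k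
      rw [eq_mul_inv_iff_mul_eq]
      exact h4.symm
    rw [h3, ← conjLin_mul_left, inv_mul_cancel, conjLin_one_left]
    rfl
  obtain ⟨a, ha, hw⟩ := exists_scalar_of_conjE hG _ h1
  have h3 : ∀ w, M.1 (M.1 w) = a • e w := by
    intro w
    have h4 := hw w
    have h5 : (ofO hE).1⁻¹ (M.1 (M.1 w)) = a • w := h4
    have h6 := congrArg (ofO hE).1 h5
    rw [apply_inv, ofO_apply, map_smul] at h6
    exact h6
  obtain ⟨x, y, hxy⟩ := hG.exists_hyp
  intro t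
  have h4 := h3 (t • x)
  rw [H.1.smul, H.1.smul, h3, map_smul, smul_smul, smul_smul, mul_comm a t] at h4
  have h5 : (σ (σ t) * a - t * a) • e x = 0 := by rw [sub_smul, h4, sub_self]
  rcases smul_eq_zero.1 h5 with h6 | h6
  · have h7 : (σ (σ t) - t) * a = 0 := by linear_combination h6
    rcases mul_eq_zero.1 h7 with h8 | h8
    · exact sub_eq_zero.1 h8
    · exact absurd h8 ha
  · exfalso
    rw [LinearEquiv.map_eq_zero_iff] at h6
    exact hxy.left_ne h6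

/-- **The field automorphism is trivial if `g` commutes with `x`.** -/
theorem lin_of_comm [Finite F] (h2 : (2 : F) = 0) (hG : Good Q) (H : Sl ε g M σ c) (hg : g * g ∈ K) {x : K}
    (hx : g * x = x * g) {l d : F} (hld : l * d = 1) (hirr : Irr l) {P : W →ₗ[F] W} (hP : ∀ w, P (P w) = P w)
    (hP0 : P ≠ 0) (hxP : ∀ w, (ε x : W ≃ₗ[F] W) w + (ε x : W ≃ₗ[F] W)⁻¹ w = l • P w) : ∃ h, Lin ε g h := by
  have h1 : conjLin M (ε x : W ≃ₗ[F] W) = (ε x : W ≃ₗ[F] W) := by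
    rw [H.2]
    congr 2
    apply Subtype.ext
    rw [MulAut.conjNormal_apply, hx, mul_inv_cancel_right]
  have h3 : conjLin M (ε x : W ≃ₗ[F] W)⁻¹ = (ε x : W ≃ₗ[F] W)⁻¹ := by rw [conjLin_inv, h1]
  have hl0 : l ≠ 0 := left_ne_zero_of_mul_eq_one hld
  have hσl : σ l ≠ 0 := by simpa using hl0
  have h4 : ∀ w, M.1 (P w) = ((σ l)⁻¹ * l) • P (M.1 w) := by
    intro w
    have e1 : (ε x : W ≃ₗ[F] W) (M.1 w) = M.1 ((ε x : W ≃ₗ[F] W) w) := by
      rw [← conjLin_apply' M (ε x : W ≃ₗ[F] W) w, h1]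
    have e3 : (ε x : W ≃ₗ[F] W)⁻¹ (M.1 w) = M.1 ((ε x : W ≃ₗ[F] W)⁻¹ w) := by
      rw [← conjLin_apply' M (ε x : W ≃ₗ[F] W)⁻¹ w, h3]
    have e4 := hxP (M.1 w)
    rw [e1, e3, ← H.1.add, hxP, H.1.smul] at e4
    rw [mul_smul, ← e4, smul_smul, inv_mul_cancel₀ hσl, one_smul]
  set μ := (σ l)⁻¹ * l with hμ
  have hμ0 : μ ≠ 0 := mul_ne_zero (inv_ne_zero hσl) hl0
  obtain ⟨w, hw⟩ : ∃ w, P w ≠ 0 := by
    by_contra hcon
    push Not at hcon
    exact hP0 (LinearMap.ext hcon)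
  obtain ⟨w', rfl⟩ := M.1.surjective w
  have h5 := h4 (P w')
  rw [hP, h4 w', map_smul, hP, smul_smul] at h5
  have h6 : (μ * μ - μ) • P (M.1 w') = 0 := by rw [sub_smul, ← h5, sub_self]
  have h7 : μ = 1 := by
    rcases smul_eq_zero.1 h6 with h8 | h8
    · have h9 : μ * (μ - 1) = 0 := by linear_combination h8
      rcases mul_eq_zero.1 h9 with h10 | h10
      · exact absurd h10 hμ0
      · exact sub_eq_zero.1 h10
    · exact absurd h8 hw
  have h8 : σ l = l := by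
    rw [hμ, inv_mul_eq_one₀ hσl] at h7
    exact h7
  exact H.lin h2 (eq_refl_of_irr h2 hld hirr (H.sq hG hg) h8)

end Sl

end Cfsg.Agent.H739.SK.Om
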