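import Cfsg.Agent.H739.SK.OmRefl

/-!
# S3010, orthogonal groups in characteristic two: the normal form (helper739)

`exists_XD` : from a section `j₀` of `N = v + 1` (and a nonsingular vector `b₀` fixed by `v` and orthogonal to
`j₀ Y`, unless `Q = 0` on `Y`) a section `j` with `Q (j z) = d Q z`, and the map `ζ`.
-/

set_option autoImplicit false
set_option linter.unusedSectionVars false

namespace Cfsg.Agent.H739.SK.Om

open QuadraticMap Cfsg.Agent.LieClassical.OrthCore Cfsg.Agent.LieClassical.OrthTrans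

variable {F V : Type*} [Field F] [AddCommGroup V] [Module F V] {Q : QuadraticForm F V}

/-- the form `(z, z') ↦ B(j z, z')` on `Y` -/
def frm (Q : QuadraticForm F V) {Y : Submodule F V} (j : Y →ₗ[F] V) : Y →ₗ[F] Module.Dual F Y :=
  (polarBilin Q).compl₁₂ j Y.subtype

theorem frm_apply {Y : Submodule F V} (j : Y →ₗ[F] V) (z z' : Y) : frm Q j z z' = polar Q (j z) (z' : V) := rfl

theorem frm_inj (h2 : (2 : F) = 0) (hnd : Nondeg Q) {v : V ≃ₗ[F] V} (hO : v ∈ O Q) (vv : ∀ w, v (v w) = w)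
    {Y : Submodule F V} (mem : ∀ w, v w + w ∈ Y) {j : Y →ₗ[F] V} (hj : ∀ z : Y, v (j z) + j z = z) :
    Function.Injective (frm Q j) := by
  rw [← LinearMap.ker_eq_bot, LinearMap.ker_eq_bot']
  intro z hz
  apply Subtype.ext
  apply hnd
  intro w
  rw [← hj z]
  have h1 : polar Q (v (j z)) w = polar Q (j z) (v w) := by
    have := polar_map hO (j z) (v w)
    rwa [vv] at this
  rw [polar_add_left, h1, ← polar_add_right]
  exact LinearMap.congr_fun hz ⟨v w + w, mem w⟩

/-- every functional on `Y` is `B(j u, ·)` -/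
noncomputable def frmE [FiniteDimensional F V] {Y : Submodule F V} {j : Y →ₗ[F] V}
    (h : Function.Injective (frm Q j)) : Y ≃ₗ[F] Module.Dual F Y :=
  LinearMap.linearEquivOfInjective (frm Q j) h (Subspace.dual_finrank_eq).symm

theorem frmE_apply [FiniteDimensional F V] {Y : Submodule F V} {j : Y →ₗ[F] V}
    (h : Function.Injective (frm Q j)) (z z' : Y) : frmE h z z' = polar Q (j z) (z' : V) := rfl

theorem frmE_symm [FiniteDimensional F V] {Y : Submodule F V} {j : Y →ₗ[F] V}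
    (h : Function.Injective (frm Q j)) (φ : Module.Dual F Y) (z : Y) :
    polar Q (j ((frmE h).symm φ)) (z : V) = φ z := by
  rw [← frmE_apply h, LinearEquiv.apply_symm_apply]

/-- square roots of a `2`-semilinear map -/
theorem exists_root [Finite F] (h2 : (2 : F) = 0) {Y : Type*} [AddCommGroup Y] [Module F Y] (q : Y → F)
    (hadd : ∀ z z', q (z + z') = q z + q z') (hsmul : ∀ (c : F) (z : Y), q (c • z) = c * c * q z) :
    ∃ r : Y →ₗ[F] F, ∀ z, r z * r z = q z := by
  choose s hs using fun z => sq_surjective h2 (q z)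
  refine ⟨{ toFun := s, map_add' := fun z z' => ?_, map_smul' := fun c z => ?_ }, hs⟩
  · apply sq_inj h2
    rw [hs, hadd, ← hs z, ← hs z']
    linear_combination (-(s z * s z')) * h2
  · apply sq_inj h2
    rw [hs, hsmul, ← hs z]
    simp only [RingHom.id_apply, smul_eq_mul]
    ring

theorem exists_XD [FiniteDimensional F V] [Finite F] (h2 : (2 : F) = 0) (hnd : Nondeg Q) {l d : F} (hld : l * d = 1)
    {v : V ≃ₗ[F] V} (hO : v ∈ O Q) (vv : ∀ w, v (v w) = w) {Y : Submodule F V} (mem : ∀ w, v w + w ∈ Y)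
    (j₀ : Y →ₗ[F] V) (hj₀ : ∀ z : Y, v (j₀ z) + j₀ z = z) {b₀ : V} (hb₀ : v b₀ = b₀)
    (hbj : ∀ z : Y, polar Q (j₀ z) b₀ = 0) (hcase : (∀ z : Y, Q (z : V) = 0) ∨ Q b₀ ≠ 0) :
    ∃ (j : Y →ₗ[F] V) (ζ : V →ₗ[F] Y), XD Q l d v Y j ζ ∧
      ∀ z, ∃ (y : Y) (t : F), j z = j₀ z + (y : V) + t • b₀ := by
  -- vectors of `Y`
  have hvY : ∀ z : Y, v (z : V) = z := by
    intro z
    rw [← hj₀ z, map_add, vv, add_comm]
  have hself : ∀ w y : V, polar Q (v w + w) y = polar Q w (v y + y) := by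
    intro w y
    have h1 : polar Q (v w) y = polar Q w (v y) := by
      have := polar_map hO w (v y)
      rwa [vv] at this
    rw [polar_add_left, polar_add_right, h1]
  have hYb : ∀ (z : Y) {b : V}, v b = b → polar Q (z : V) b = 0 := by
    intro z b hb
    rw [← hj₀ z, hself, hb, vadd_self h2, polar_zero_right]
  have hYY : ∀ z z' : Y, polar Q (z : V) z' = 0 := fun z z' => hYb z (hvY z')
  have hinj₀ := frm_inj h2 hnd hO vv mem hj₀
  -- the bilinear form
  set q : QuadraticForm F Y := Q.comp j₀ + d • Q.comp Y.subtype with hq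
  obtain ⟨g, hg⟩ := LinearMap.BilinMap.toQuadraticMap_surjective q
  have hgz : ∀ z : Y, g z z = Q (j₀ z) + d * Q (z : V) := by
    intro z
    have h1 := congrArg (fun f : QuadraticForm F Y => f z) hg
    simp only [LinearMap.BilinMap.toQuadraticMap_apply] at h1
    rw [h1, hq]
    rfl
  let φ : Y →ₗ[F] Y := (frmE hinj₀).symm.toLinearMap ∘ₗ g.flip
  have hφ : ∀ z z' : Y, polar Q (j₀ (φ z)) (z' : V) = g z' z := by
    intro z z'
    exact frmE_symm hinj₀ (g.flip z) z'
  have hsym : ∀ z z' : Y, polar Q (j₀ z) (z' : V) = polar Q (j₀ z') (z : V) := by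
    intro z z'
    calc polar Q (j₀ z) (z' : V) = polar Q (j₀ z) (v (j₀ z') + j₀ z') := by rw [hj₀]
      _ = polar Q (v (j₀ z) + j₀ z) (j₀ z') := (hself _ _).symm
      _ = polar Q (j₀ z') (z : V) := by rw [hj₀, polar_comm]
  have hφ' : ∀ z : Y, polar Q (j₀ z) (φ z : V) = g z z := by
    intro z
    rw [hsym, hφ]
  -- the root
  obtain ⟨r, hr⟩ : ∃ r : Y →ₗ[F] F, ∀ z, Q (φ z : V) + r z * r z * Q b₀ = 0 := by
    rcases hcase with h0 | h0
    · exact ⟨0, fun z => by rw [h0]; simp⟩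
    · obtain ⟨r, hr⟩ := exists_root (Y := Y) h2 (fun z => Q (φ z : V) * (Q b₀)⁻¹) (fun z z' => by
          show Q ((φ (z + z') : Y) : V) * _ = _
          rw [map_add, Submodule.coe_add, Q_add, hYY, add_zero, add_mul]) (fun c z => by
          show Q ((φ (c • z) : Y) : V) * _ = _
          rw [map_smul, Submodule.coe_smul, QuadraticMap.map_smul, smul_eq_mul]
          ring)
      refine ⟨r, fun z => ?_⟩
      rw [hr, mul_assoc, inv_mul_cancel₀ h0, mul_one]
      exact add_self h2 _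
  let j : Y →ₗ[F] V := j₀ + Y.subtype ∘ₗ φ + r.smulRight b₀
  have hj : ∀ z, j z = j₀ z + (φ z : V) + r z • b₀ := fun z => rfl
  have hsec : ∀ z : Y, v (j z) + j z = z := by
    intro z
    rw [hj, map_add, map_add, map_smul, hvY, hb₀]
    have e : v (j₀ z) + (φ z : V) + r z • b₀ + (j₀ z + (φ z : V) + r z • b₀) =
        (v (j₀ z) + j₀ z) + ((φ z : V) + (φ z : V)) + (r z • b₀ + r z • b₀) := by abel
    rw [e, hj₀, vadd_self h2, vadd_self h2, add_zero, add_zero]
  have hsq : ∀ z : Y, Q (j z) = d * Q (z : V) := by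
    intro z
    have h1 : polar Q (j₀ z + (φ z : V)) (r z • b₀) = 0 := by
      rw [polar_smul_right, polar_add_left, hbj, hYb (φ z) hb₀, add_zero, smul_zero]
    rw [hj, Q_add, Q_add, h1, hφ', hgz, QuadraticMap.map_smul, smul_eq_mul]
    have h3 := hr z
    linear_combination h3 + (Q (j₀ z)) * h2
  have hinj := frm_inj h2 hnd hO vv mem hsec
  -- the functional `z ↦ B(w, j z)`
  let ψ : V →ₗ[F] Module.Dual F Y := (polarBilin Q).compl₁₂ LinearMap.id j
  refine ⟨j, (frmE hinj).symm.toLinearMap ∘ₗ ψ, ⟨h2, hnd, hO, vv, mem, hsec, hsq, hld, fun w z => ?_⟩,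
    fun z => ⟨φ z, r z, hj z⟩⟩
  exact frmE_symm hinj (ψ w) z

/-- a section of `v + 1` on its range -/
theorem exists_section (v : V ≃ₗ[F] V) :
    ∃ j : ↥(LinearMap.range (v.toLinearMap + LinearMap.id)) →ₗ[F] V, ∀ z, v (j z) + j z = z := by
  obtain ⟨g, hg⟩ := LinearMap.exists_rightInverse_of_surjective
    (v.toLinearMap + LinearMap.id).rangeRestrict (LinearMap.range_rangeRestrict _)
  refine ⟨g, fun z => ?_⟩
  exact congrArg Subtype.val (LinearMap.congr_fun hg z)

/-! ### type `a` -/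

/-- **type `a`** : `B(y, v y) = 0` for all `y` -/
theorem exists_XD_a [FiniteDimensional F V] [Finite F] (h2 : (2 : F) = 0) (hnd : Nondeg Q) {l d : F} (hld : l * d = 1)
    {v : V ≃ₗ[F] V} (hO : v ∈ O Q) (vv : ∀ w, v (v w) = w) (ha : ∀ y, polar Q y (v y) = 0) :
    ∃ (j : ↥(LinearMap.range (v.toLinearMap + LinearMap.id)) →ₗ[F] V)
      (ζ : V →ₗ[F] ↥(LinearMap.range (v.toLinearMap + LinearMap.id))),
      XD Q l d v (LinearMap.range (v.toLinearMap + LinearMap.id)) j ζ ∧
      XD.Star Q (LinearMap.range (v.toLinearMap + LinearMap.id)) j := by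
  obtain ⟨j₀, hj₀⟩ := exists_section v
  have mem : ∀ w, v w + w ∈ LinearMap.range (v.toLinearMap + LinearMap.id) := fun w => ⟨w, rfl⟩
  have hQ : ∀ z : ↥(LinearMap.range (v.toLinearMap + LinearMap.id)), Q (z : V) = 0 := by
    rintro ⟨_, w, rfl⟩
    show Q (v w + w) = 0
    rw [Q_add, mem_O.1 hO, polar_comm, ha, add_zero]
    exact add_self h2 _
  obtain ⟨j, ζ, h, -⟩ := exists_XD h2 hnd hld hO vv mem j₀ hj₀ (b₀ := 0) (map_zero _)
    (fun z => polar_zero_right _ _) (Or.inl hQ)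
  refine ⟨j, ζ, h, ?_⟩
  intro u hu _
  apply h.inj0
  intro z
  rw [h.polar_sym]
  exact hu z (hQ z)

end Cfsg.Agent.H739.SK.Om
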